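import Cfsg.Agent.Lib.Char.StarNilpotent
import Mathlib.GroupTheory.SpecificGroups.Dihedral

/-!
# Blocks with dihedral defect groups containing a central involution

Such a block is nilpotent: an element of odd order normalising a subgroup of the defect group, and fixing the
involution, centralises it.
-/

set_option autoImplicit false
set_option linter.unusedSectionVars false

namespace Cfsg.Agent.Char.DihBlock

open Cfsg DihedralGroup

universe u

variable {H : Type u} [Group H] [Fintype H] {N : ℕ} [NeZero N]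

/-- An element of odd order normalising a cyclic `2`-group centralises it. -/
theorem commute_of_zpowers {x y : H} (hy : ∃ a : ℕ, orderOf y = 2 ^ a) (hx : Odd (orderOf x)) {c : ℕ}
    (hc : x * y * x⁻¹ = y ^ c) : x * y * x⁻¹ = y := by
  obtain ⟨a, ha⟩ := hy
  rcases Nat.eq_zero_or_pos a with rfl | ha0
  · have : y = 1 := orderOf_eq_one_iff.mp (by simpa using ha)
    simp [this]
  haveI : NeZero (2 ^ a) := ⟨pow_ne_zero a two_ne_zero⟩
  have hit : ∀ n : ℕ, x ^ n * y * (x ^ n)⁻¹ = y ^ c ^ n := by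
    intro n
    induction n with
    | zero => simp
    | succ n ih =>
      calc x ^ (n + 1) * y * (x ^ (n + 1))⁻¹ = x * (x ^ n * y * (x ^ n)⁻¹) * x⁻¹ := by
            rw [pow_succ']; group
        _ = (x * y * x⁻¹) ^ c ^ n := by rw [ih, conj_pow]
        _ = _ := by rw [hc, ← pow_mul, pow_succ']
  have h1 := hit (orderOf x)
  rw [pow_orderOf_eq_one] at h1
  simp only [inv_one, mul_one, one_mul] at h1
  have h2 : y ^ 1 = y ^ c ^ orderOf x := by rw [pow_one]; exact h1
  rw [pow_eq_pow_iff_modEq, ha, ← ZMod.natCast_eq_natCast_iff, Nat.cast_one, Nat.cast_pow] at h2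
  have hunit : IsUnit (c : ZMod (2 ^ a)) := IsUnit.of_pow_eq_one h2.symm hx.pos.ne'
  obtain ⟨w, hw⟩ := hunit
  have hw1 : w ^ orderOf x = 1 := Units.ext (by rw [Units.val_pow_eq_pow_val, hw, Units.val_one, ← h2])
  have hcard : orderOf w ∣ 2 ^ (a - 1) := by
    have h3 := orderOf_dvd_card (x := w)
    rw [ZMod.card_units_eq_totient, Nat.totient_prime_pow Nat.prime_two ha0] at h3
    simpa using h3
  have hw2 : w = 1 := orderOf_eq_one_iff.mp (Nat.eq_one_of_dvd_coprimes
    ((Nat.coprime_two_left.mpr hx).pow_left (a - 1)) hcard (orderOf_dvd_of_pow_eq_one hw1))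
  rw [hc]
  conv_rhs => rw [← pow_one y]
  rw [pow_eq_pow_iff_modEq, ha, ← ZMod.natCast_eq_natCast_iff, Nat.cast_one, ← hw, hw2, Units.val_one]

theorem zmod_two_torsion (h2 : 2 ∣ N) {i : ZMod N} (hi : i + i = 0) : i = 0 ∨ i = ((N / 2 : ℕ) : ZMod N) := by
  obtain ⟨m, rfl⟩ := h2
  have hm : 0 < m := Nat.pos_of_ne_zero fun h => NeZero.ne (2 * m) (by simp [h])
  rw [← ZMod.natCast_zmod_val i, ← Nat.cast_add, ZMod.natCast_eq_zero_iff] at hi
  obtain ⟨k, hk⟩ := hi
  have hlt := ZMod.val_lt i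
  have hk2 : k < 2 := by
    by_contra h
    have : 2 * m * 2 ≤ 2 * m * k := Nat.mul_le_mul_left _ (not_lt.mp h)
    omega
  have hdiv : 2 * m / 2 = m := by omega
  interval_cases k
  · left
    rw [← ZMod.natCast_zmod_val i, show i.val = 0 by omega, Nat.cast_zero]
  · right
    rw [hdiv, ← ZMod.natCast_zmod_val i, show i.val = m by omega]

/-- An element of odd order fixing the central involution centralises the subgroups of a dihedral `2`-group that it
normalises. -/
theorem centralizes_dihedral (j : DihedralGroup N →* H) (hj : Function.Injective j) {a : ℕ} (hN : N = 2 ^ a)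
    (hz : ∀ w, j (r ((N / 2 : ℕ) : ZMod N)) * w = w * j (r ((N / 2 : ℕ) : ZMod N))) (h2 : 2 ∣ N)
    {Q : Subgroup H} (hQ : ∀ q ∈ Q, ∃ d, j d = q) {x : H} (hx : Odd (orderOf x))
    (hxQ : x ∈ Subgroup.normalizer (Q : Set H)) {q : H} (hq : q ∈ Q) : x * q * x⁻¹ = q := by
  have hconj : ∀ {q : H}, q ∈ Q → x * q * x⁻¹ ∈ Q := fun h => (Subgroup.mem_normalizer_iff.mp hxQ _).mp h
  have htwo : ∀ q ∈ Q, ∃ b : ℕ, orderOf q = 2 ^ b := fun q hq => by
    obtain ⟨d, rfl⟩ := hQ q hq
    have hd : orderOf d ∣ 2 ^ (a + 1) := by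
      rw [pow_succ, ← hN]
      have := orderOf_dvd_natCard d
      rwa [DihedralGroup.nat_card, mul_comm] at this
    obtain ⟨b, -, hb⟩ := (Nat.dvd_prime_pow Nat.prime_two).mp hd
    exact ⟨b, by rw [orderOf_injective j hj, hb]⟩
  have hrot : ∀ i, j (r i) ∈ Q → x * j (r i) * x⁻¹ = j (r i) := by
    intro i hi
    by_cases hii : i + i = 0
    · rcases zmod_two_torsion h2 hii with rfl | rfl
      · rw [show (r (0 : ZMod N)) = 1 from rfl, map_one]; group
      · rw [← hz x]; group
    obtain ⟨d, hd⟩ := hQ _ (hconj hi)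
    have hord : orderOf d = orderOf (r i) := by
      rw [← orderOf_injective j hj d, ← orderOf_injective j hj (r i), hd,
        show x * j (r i) * x⁻¹ = MulAut.conj x (j (r i)) from rfl, MulEquiv.orderOf_eq]
    rcases d with k | k
    · have hk : ∃ c : ℕ, k = c * i := by
        rw [orderOf_r, orderOf_r] at hord
        have hg : (N.gcd k.val) = N.gcd i.val := by
          have h1 := Nat.gcd_dvd_left N k.val
          have h3 := Nat.gcd_dvd_left N i.val
          rw [← Nat.div_div_self h1 (NeZero.ne N), hord, Nat.div_div_self h3 (NeZero.ne N)]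
        have hdk : (N.gcd i.val) ∣ k.val := hg ▸ Nat.gcd_dvd_right N k.val
        obtain ⟨t, ht⟩ := hdk
        refine ⟨((Int.natMod (Nat.gcdB N i.val * t) N : ℕ)), ?_⟩
        have e : ((N.gcd i.val : ℕ) : ZMod N) = (Nat.gcdB N i.val : ZMod N) * i := by
          have h := congrArg (fun z : ℤ => (z : ZMod N)) (Nat.gcd_eq_gcd_ab N i.val)
          simp only [Int.cast_add, Int.cast_mul, Int.cast_natCast, ZMod.natCast_self, zero_mul, zero_add,
            ZMod.natCast_zmod_val] at h
          rw [h, mul_comm]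
        have e2 : ((Int.natMod (Nat.gcdB N i.val * t) N : ℕ) : ZMod N) = (Nat.gcdB N i.val : ZMod N) * t := by
          rw [Int.natMod, ← Int.cast_natCast, Int.toNat_of_nonneg (Int.emod_nonneg _ (by exact_mod_cast NeZero.ne N))]
          rw [ZMod.intCast_mod, Int.cast_mul, Int.cast_natCast]
        rw [e2, ← ZMod.natCast_zmod_val k, ht, Nat.cast_mul, e]
        ring
      obtain ⟨c, hc⟩ := hk
      refine commute_of_zpowers (htwo _ hi) hx (c := c) ?_
      rw [← hd, ← map_pow, r_pow, hc, mul_comm i]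
    · exfalso
      rw [orderOf_sr] at hord
      apply hii
      have h := pow_orderOf_eq_one (r i)
      rw [← hord, r_pow, DihedralGroup.one_def] at h
      simp only [r.injEq, Nat.cast_ofNat] at h
      rw [← two_mul, mul_comm]
      exact h
  obtain ⟨d, rfl⟩ := hQ q hq
  rcases d with i | i
  · exact hrot i hq
  obtain ⟨d, hd⟩ := hQ _ (hconj hq)
  rcases d with k | k
  · exfalso
    have h1 := hrot k (hd ▸ hconj hq)
    rw [hd] at h1
    have h2 : x * j (sr i) * x⁻¹ = j (sr i) := by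
      calc x * j (sr i) * x⁻¹ = x⁻¹ * (x * (x * j (sr i) * x⁻¹) * x⁻¹) * x := by group
        _ = x⁻¹ * (x * j (sr i) * x⁻¹) * x := by rw [h1]
        _ = j (sr i) := by group
    rw [← hd] at h2
    exact nomatch (hj h2)
  set y := j (sr i)
  have hcQ : j (r (k - i)) ∈ Q := by
    rw [← sr_mul_sr i k, map_mul, hd]
    exact mul_mem hq (hconj hq)
  set c := j (r (k - i)) with hc
  have hyc : x * y * x⁻¹ = y * c := by
    rw [← hd, hc, ← map_mul, sr_mul_r, add_sub_cancel]
  have hxc := hrot _ hcQ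
  have hit : ∀ n : ℕ, x ^ n * y * (x ^ n)⁻¹ = y * c ^ n := by
    intro n
    induction n with
    | zero => simp
    | succ n ih =>
      calc x ^ (n + 1) * y * (x ^ (n + 1))⁻¹ = x * (x ^ n * y * (x ^ n)⁻¹) * x⁻¹ := by rw [pow_succ']; group
        _ = (x * y * x⁻¹) * (x * c * x⁻¹) ^ n := by rw [ih, conj_pow]; group
        _ = _ := by rw [hyc, hxc, pow_succ', mul_assoc]
  have h1 := hit (orderOf x)
  rw [pow_orderOf_eq_one] at h1
  have h2c : c ^ orderOf x = 1 := by simpa using h1
  obtain ⟨b, hb⟩ := htwo c hcQ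
  have : c = 1 := orderOf_eq_one_iff.mp (Nat.eq_one_of_dvd_coprimes
    ((Nat.coprime_two_left.mpr hx).pow_left b) (hb ▸ dvd_refl _) (orderOf_dvd_of_pow_eq_one h2c))
  rw [hyc, this, mul_one]

/-- A block with a dihedral defect group containing a central involution is nilpotent. -/
theorem nilpotent_of_central {M : Ideal AlgInt} (hM : IsPModular 2 M) {f : Set (IrrCharacter H)}
    (hf : IsPBlock M f) {P : Subgroup H} (hP : IsDefectGroup 2 M f P) (ι : DihedralGroup N ≃* P) {a : ℕ}
    (hN : N = 2 ^ a) (h2 : 2 ∣ N)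
    (hz : ∀ w : H, ((ι (r ((N / 2 : ℕ) : ZMod N)) : P) : H) * w = w * ((ι (r ((N / 2 : ℕ) : ZMod N)) : P) : H)) :
    IsNilpotentBlock 2 M f := by
  obtain ⟨e, he⟩ := exists_pair_of_le_defect hM hf hP le_rfl
  have hmax := maximal_of_defect hM hP he
  refine ⟨hf, fun Q f' hQ x hx _ hreg => ?_⟩
  obtain ⟨g, hg⟩ := pairs_conj_into_maximal hM hmax hQ
  have hle : Q.map (MulAut.conj g).toMonoidHom ≤ P := subpair_rel_le hg
  rw [Subgroup.mem_centralizer_iff]
  intro q hq
  have hord : Odd (orderOf (g * x * g⁻¹)) := by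
    rw [show g * x * g⁻¹ = MulAut.conj g x from rfl, MulEquiv.orderOf_eq, Nat.odd_iff]
    have : ¬ 2 ∣ orderOf x := hreg
    omega
  have hN' : g * x * g⁻¹ ∈ Subgroup.normalizer ((Q.map (MulAut.conj g).toMonoidHom : Subgroup H) : Set H) := by
    have h := Subgroup.le_normalizer_map (H := Q) (MulAut.conj g).toMonoidHom ⟨x, hx, rfl⟩
    simpa using h
  have h := centralizes_dihedral (P.subtype.comp ι.toMonoidHom)
    (P.subtype_injective.comp ι.injective) hN hz h2 (Q := Q.map (MulAut.conj g).toMonoidHom)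
    (fun q hq => ⟨ι.symm ⟨q, hle hq⟩, by simp⟩) hord hN' (q := g * q * g⁻¹) ⟨q, hq, rfl⟩
  have h' : x * q * x⁻¹ = q := by
    calc x * q * x⁻¹ = g⁻¹ * (g * x * g⁻¹ * (g * q * g⁻¹) * (g * x * g⁻¹)⁻¹) * g := by group
      _ = q := by rw [h]; group
  calc q * x = (x * q * x⁻¹) * x := by rw [h']
    _ = x * q := by group

end Cfsg.Agent.Char.DihBlock
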