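import Cfsg.Agent.Lib.Char.DihedralBlock.Main
import Cfsg.Agent.Lib.Char.SubsectionForm
import Cfsg.Agent.Lib.Char.QuotientBlocks
import Cfsg.Agent.Lib.Char.DefectLocal
import Cfsg.Agent.Lib.Fusion.QuasiDihedral

/-!
# Blocks with dihedral or semidihedral defect group of a group with a central involution
-/

set_option autoImplicit false
set_option linter.unusedSectionVars false
set_option linter.style.haveILetI false

namespace Cfsg.Agent.Char.DihBlock

open Cfsg DihedralGroup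

universe u

variable {G : Type u} [Group G] [Fintype G] {M : Ideal AlgInt} {B : Set (IrrCharacter G)} {D : Subgroup G}

theorem mem_defect_of_central (hM : IsPModular 2 M) (hB : IsPBlock M B) (hD : IsDefectGroup 2 M B D) {t : G}
    (ht : orderOf t = 2) (htc : ∀ g, t * g = g * t) : t ∈ D := by
  haveI : Fact (Nat.Prime 2) := ⟨Nat.prime_two⟩
  haveI : (Subgroup.zpowers t).Normal := ⟨fun w hw g => by
    obtain ⟨i, rfl⟩ := hw
    rw [← (Commute.zpow_left (htc g) i).eq, mul_inv_cancel_right]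
    exact Subgroup.zpow_mem_zpowers _ _⟩
  exact pCore_le_defectGroup hM hB hD (Subgroup.zpowers t)
    (IsPGroup.of_card (n := 1) (by rw [Nat.card_zpowers, ht, pow_one])) (Subgroup.mem_zpowers t)

/-- Dihedral defect groups. -/
theorem rank_one_of_central (hM : IsPModular 2 M) (hB : IsPBlock M B) (hD : IsDefectGroup 2 M B D) {n : ℕ}
    (hn : 3 ≤ n) (hdih : Nonempty (D ≃* DihedralGroup (2 ^ (n - 1)))) {t : G} (ht : orderOf t = 2)
    (htc : ∀ g, t * g = g * t) : blockRank 2 B = 1 := by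
  haveI : Fact (Nat.Prime 2) := ⟨Nat.prime_two⟩
  obtain ⟨ι⟩ := hdih
  haveI : NeZero (2 ^ (n - 1)) := ⟨pow_ne_zero _ two_ne_zero⟩
  have htD := mem_defect_of_central hM hB hD ht htc
  have h4 : 4 ∣ 2 ^ (n - 1) := dvd_trans (by norm_num) (pow_dvd_pow 2 (by omega : 2 ≤ n - 1))
  have hd : ι ⟨t, htD⟩ = r ((2 ^ (n - 1) / 2 : ℕ) : ZMod (2 ^ (n - 1))) := by
    refine center_r_half h4 (fun y => ?_) fun h => ?_
    · refine ι.symm.injective ?_
      rw [map_mul, map_mul, MulEquiv.symm_apply_apply]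
      exact Subtype.ext (htc _)
    · have h1 := congrArg ι.symm h
      rw [MulEquiv.symm_apply_apply, map_one] at h1
      have h2 : t = 1 := congrArg Subtype.val h1
      rw [h2, orderOf_one] at ht
      omega
  refine (Star.nilpotent_rank_one hM (nilpotent_of_central hM hB hD ι.symm rfl ((dvd_mul_right 2 2).trans h4)
    fun w => ?_)).1
  rw [← hd, MulEquiv.symm_apply_apply]
  exact htc w

/-- Semidihedral defect groups. -/
theorem rank_le_two_of_central (hM : IsPModular 2 M) (hB : IsPBlock M B) (hD : IsDefectGroup 2 M B D)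
    (hQ : IsQuasiDihedral D) {t : G} (ht : orderOf t = 2) (htc : ∀ g, t * g = g * t) : blockRank 2 B ≤ 2 := by
  classical
  haveI : Fact (Nat.Prime 2) := ⟨Nat.prime_two⟩
  obtain ⟨n, ⟨Q⟩⟩ := Fusion.exists_qdData' hQ
  have htD := mem_defect_of_central hM hB hD ht htc
  have hzz : ∀ c : ℤ, Q.z ^ c * Q.z ^ c = 1 := fun c => by
    rw [← (Commute.refl Q.z).mul_zpow, Q.z_mul_z, one_zpow]
  have htt : ∀ c : ℤ, t ^ c * t ^ c = 1 := fun c => by
    rw [← (Commute.refl t).mul_zpow, ← sq, ← ht, pow_orderOf_eq_one, one_zpow]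
  have htz : (⟨t, htD⟩ : D) = Q.z := by
    have hmem : (⟨t, htD⟩ : D) ∈ Subgroup.center D :=
      Subgroup.mem_center_iff.mpr fun w => Subtype.ext (htc _).symm
    rw [Q.center_eq] at hmem
    obtain ⟨i, hi⟩ := Subgroup.mem_zpowers_iff.mp hmem
    have hne : (⟨t, htD⟩ : D) ≠ 1 := fun h => by
      rw [show t = 1 from congrArg Subtype.val h, orderOf_one] at ht
      omega
    rcases Int.even_or_odd i with ⟨c, hc⟩ | ⟨c, hc⟩
    · exact absurd (by rw [← hi, hc, zpow_add, hzz]) hne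
    · rw [← hi, hc, zpow_add, two_mul, zpow_add, hzz, one_mul, zpow_one]
  set Z := Subgroup.zpowers t with hZ
  haveI : Z.Normal := ⟨fun w hw g => by
    obtain ⟨i, rfl⟩ := hw
    rw [← (Commute.zpow_left (htc g) i).eq, mul_inv_cancel_right]
    exact Subgroup.zpow_mem_zpowers _ _⟩
  have hZp : IsPGroup 2 Z := IsPGroup.of_card (n := 1) (by rw [Nat.card_zpowers, ht, pow_one])
  have hZD : Z ≤ D := Subgroup.zpowers_le.mpr htD
  haveI : Fintype (G ⧸ Z) := Fintype.ofFinite _
  obtain ⟨Bb, hBb, hsub, hdef⟩ := exists_quotient_block_defect hM hZp hB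
  set π := QuotientGroup.mk' Z with hπ
  set Db := D.map π with hDbdef
  have hDb : IsDefectGroup 2 M Bb Db := hdef D hD
  have hπ1 : ∀ w : D, π w = 1 → w = 1 ∨ w = Q.z := fun w hw => by
    have hw' : (w : G) ∈ Z := (QuotientGroup.eq_one_iff _).mp hw
    obtain ⟨i, hi⟩ := Subgroup.mem_zpowers_iff.mp hw'
    rcases Int.even_or_odd i with ⟨c, hc⟩ | ⟨c, hc⟩
    · left
      refine Subtype.ext ?_
      rw [← hi, hc, zpow_add, htt]
      rfl
    · right
      rw [← htz]
      refine Subtype.ext ?_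
      rw [← hi, hc, zpow_add, two_mul, zpow_add, htt, one_mul, zpow_one]
  have hπz : π (Q.z : G) = 1 := by
    rw [← htz]
    exact (QuotientGroup.eq_one_iff _).mpr (Subgroup.mem_zpowers t)
  -- the quotient is dihedral
  set f : D →* G ⧸ Z := π.comp D.subtype with hf
  set a : G ⧸ Z := f (Q.x * Q.y) with ha
  set b : G ⧸ Z := f Q.y with hb
  have hxy : Q.x * Q.y = Q.x ^ (1 : ℤ) * Q.y := by rw [zpow_one]
  have hn3 : 2 ^ 3 ≤ 2 ^ n := Nat.pow_le_pow_right two_pos Q.hn
  have hf1 : ∀ {w : D}, 2 < orderOf w ∨ w ∉ Subgroup.zpowers Q.x → f w ≠ 1 := by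
    intro w hw h
    rcases hπ1 w h with rfl | rfl
    · rcases hw with hw | hw
      · rw [orderOf_one] at hw; omega
      · exact hw (one_mem _)
    · rcases hw with hw | hw
      · rw [Q.orderOf_z] at hw; omega
      · exact hw (Subgroup.zpow_mem_zpowers _ _)
  have hsq : ∀ w : D, f w * f w = f (w * w) := fun w => (map_mul f w w).symm
  have hao : orderOf a = 2 := by
    refine orderOf_eq_prime ?_ (hf1 (Or.inr (hxy ▸ Q.not_mem_of_refl 1)))
    rw [sq, ha, hsq, hxy, Q.refl_sq, Q.h_mul_odd odd_one]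
    exact hπz
  have hbo : orderOf b = 2 := by
    refine orderOf_eq_prime ?_ (hf1 (Or.inr Q.y_not_mem))
    rw [sq, hb, hsq, Q.yy, map_one]
  have habx : a * b = f Q.x := by rw [ha, hb, ← map_mul, mul_assoc, Q.yy, mul_one]
  have hab : a ≠ b := fun h => by
    have h1 : a * b = 1 := by rw [h, ← sq, ← hbo, pow_orderOf_eq_one]
    rw [habx] at h1
    exact hf1 (Or.inl (by rw [Q.ox]; omega)) h1
  obtain ⟨ι₀⟩ := Fusion.closure_pair_equiv_dihedral hao hbo hab
  have hclos : Subgroup.closure ({a, b} : Set (G ⧸ Z)) = Db := by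
    refine le_antisymm ((Subgroup.closure_le _).mpr ?_) ?_
    · rintro w (rfl | rfl)
      · exact ⟨_, (Q.x * Q.y).2, rfl⟩
      · exact ⟨_, Q.y.2, rfl⟩
    · rintro _ ⟨w, hw, rfl⟩
      have hx' : f Q.x ∈ Subgroup.closure ({a, b} : Set (G ⧸ Z)) :=
        habx ▸ mul_mem (Subgroup.subset_closure (Or.inl rfl)) (Subgroup.subset_closure (Or.inr rfl))
      obtain ⟨i, hi | hi⟩ := Q.exists_form ⟨w, hw⟩
      · show f ⟨w, hw⟩ ∈ _
        rw [hi, map_zpow]
        exact zpow_mem hx' i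
      · show f ⟨w, hw⟩ ∈ _
        rw [hi, map_mul, map_zpow]
        exact mul_mem (zpow_mem hx' i) (Subgroup.subset_closure (Or.inr rfl))
  have hcardb : Nat.card Db = 2 ^ n := by
    have h2 := Solv.card_map_mk'_mul_card_inf Z D
    rw [inf_eq_left.mpr hZD, Nat.card_zpowers, ht, Q.hcard, pow_succ] at h2
    exact Nat.eq_of_mul_eq_mul_right two_pos h2
  set N := orderOf (a * b) with hNdef
  haveI : NeZero N := ⟨(orderOf_pos _).ne'⟩
  obtain ⟨m, hm⟩ : ∃ m, N = 2 ^ (m + 2) := by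
    refine ⟨n - 3, ?_⟩
    have h1 : Nat.card Db = 2 * N := by
      rw [← hclos, Nat.card_congr ι₀.toEquiv, DihedralGroup.nat_card]
    rw [hcardb, show n = n - 3 + 2 + 1 by have := Q.hn; omega, pow_succ, mul_comm] at h1
    omega
  let ι : DihedralGroup N ≃* Db := ι₀.symm.trans (MulEquiv.subgroupCongr hclos)
  set zb : G ⧸ Z := ((ι (r ((N / 2 : ℕ) : ZMod N)) : Db) : G ⧸ Z) with hzb
  haveI : Fintype (Subgroup.centralizer ({zb} : Set (G ⧸ Z))) := Fintype.ofFinite _
  obtain ⟨S⟩ := nonempty_dblock hM hBb hDb hm ι hzb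
  obtain ⟨ζ, hζ⟩ : ∃ ζ : ℂ, IsPrimitiveRoot ζ N := ⟨_, Complex.isPrimitiveRoot_exp N (NeZero.ne _)⟩
  -- the element outside the sections of the rotations
  obtain ⟨y, hy, hyS⟩ := (isDefectGroup_iff Bb Db).mp hDb
  have hbD : b ∈ Db := ⟨_, Q.y.2, rfl⟩
  have hreg := defectClass_regular hM hBb hy
  have hcomm : Commute b y := Subgroup.mem_centralizer_singleton_iff.mp (hyS.le hbD)
  have hppt : ppt 2 (b * y) = b := ppt_mul Nat.prime_two hcomm ⟨1, by rw [hbo, pow_one]⟩ hreg
  obtain ⟨ψ, hψ, hψ0⟩ := exists_height_zero (p := 2) (block_nonempty (pmod_prime hM) hBb)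
  have hne : (ψ : G ⧸ Z → ℂ) (b * y) ≠ 0 := fun h =>
    char_unit_at_section hM hBb hy hyS hbD hψ hψ0 (h ▸ memLI_zero (pmod_prime hM))
  have hg2 : 2 ∣ orderOf (b * y) := by
    by_contra h
    rw [(ppt_eq_one_iff Nat.prime_two _).mpr h] at hppt
    rw [← hppt, orderOf_one] at hbo
    omega
  have hgood : ∀ w : G ⧸ Z, ¬ Good zb (w⁻¹ * (b * y) * w) := by
    intro w hG
    obtain ⟨k, hk⟩ := hG
    have hzb2 : orderOf zb = 2 := S.orderOf_z
    have e1 : ppt 2 (w⁻¹ * (b * y) * w) = w⁻¹ * b * w := by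
      have := ppt_conj Nat.prime_two (b * y) w⁻¹
      rwa [inv_inv, hppt] at this
    rw [e1] at hk
    have hco : orderOf (w⁻¹ * b * w) = 2 := by
      rw [show w⁻¹ * b * w = MulAut.conj w⁻¹ b by simp, MulEquiv.orderOf_eq, hbo]
    rcases k with _ | k
    swap
    · rw [pow_succ', pow_mul, ← hco, pow_orderOf_eq_one, one_pow] at hk
      rw [← hk, orderOf_one] at hzb2
      omega
    rw [pow_zero, pow_one] at hk
    -- the involution is the image of a square of the cyclic part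
    obtain ⟨v, hv⟩ : ∃ v : Db, zb = (v : G ⧸ Z) * v := by
      refine ⟨ι (r ((N / 4 : ℕ) : ZMod N)), ?_⟩
      rw [hzb, ← Subgroup.coe_mul, ← map_mul, r_mul_r, ← Nat.cast_add]
      rw [show N / 4 + N / 4 = N / 2 by rw [hm, pow_add]; omega]
    obtain ⟨d, hd, hdv⟩ := v.2
    rw [← hdv, ← map_mul] at hv
    obtain ⟨i, hi | hi⟩ := Q.exists_form ⟨d, hd⟩
    swap
    · have h1 : f (⟨d, hd⟩ * ⟨d, hd⟩) = zb := hv.symm
      rw [hi, Q.refl_sq] at h1
      rcases Int.even_or_odd i with he | he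
      · rw [Q.h_mul_even he, map_one] at h1
        rw [← h1, orderOf_one] at hzb2
        omega
      · rw [Q.h_mul_odd he] at h1
        rw [← h1, show f Q.z = 1 from hπz, orderOf_one] at hzb2
        omega
    obtain ⟨g₀, rfl⟩ := QuotientGroup.mk'_surjective Z w
    set e : D := ⟨d, hd⟩ * ⟨d, hd⟩ with he
    have hne1 : e ≠ 1 ∧ e ≠ Q.z := by
      refine ⟨fun h => ?_, fun h => ?_⟩ <;>
      · have h1 : f e = zb := hv.symm
        rw [h] at h1
        first
          | rw [map_one] at h1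
            rw [← h1, orderOf_one] at hzb2
            omega
          | rw [show f Q.z = 1 from hπz] at h1
            rw [← h1, orderOf_one] at hzb2
            omega
    have hmem : (g₀⁻¹ * (Q.y : G) * g₀)⁻¹ * (e : G) ∈ Z := by
      refine (QuotientGroup.eq (s := Z)).mp ?_
      show π (g₀⁻¹ * (Q.y : G) * g₀) = π (e : G)
      rw [map_mul, map_mul, map_inv]
      exact hk.trans hv
    obtain ⟨j, hj⟩ := Subgroup.mem_zpowers_iff.mp hmem
    have hee : (e : G) * e = 1 := by
      have e2 : (e : G) = g₀⁻¹ * (Q.y : G) * g₀ * t ^ j := by rw [hj]; group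
      have hy2 : (Q.y : G) * (Q.y : G) = 1 := congrArg Subtype.val Q.yy
      have ht2 : t ^ j * t ^ j = 1 := htt j
      have hc : ∀ u : G, Commute (t ^ j) u := fun u => Commute.zpow_left (htc u) j
      rw [e2]
      calc g₀⁻¹ * (Q.y : G) * g₀ * t ^ j * (g₀⁻¹ * (Q.y : G) * g₀ * t ^ j)
          = g₀⁻¹ * (Q.y : G) * g₀ * (t ^ j * (g₀⁻¹ * (Q.y : G) * g₀)) * t ^ j := by group
        _ = g₀⁻¹ * ((Q.y : G) * (Q.y : G)) * g₀ * (t ^ j * t ^ j) := by rw [(hc _).eq]; group
        _ = 1 := by rw [hy2, ht2]; group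
    have he2 : orderOf e = 2 := orderOf_eq_prime (Subtype.ext (by rw [sq]; exact hee)) hne1.1
    rcases Q.invol_cases he2 with h | ⟨l, -, h⟩
    · exact hne1.2 h
    · rw [he, hi, ← zpow_add] at h
      exact Q.refl_ne_rot _ _ h.symm
  have hst := (standard hζ S).1
  have hl := rank_le_succ hζ S hg2 hgood hψ hne
  -- the rank of the quotient block
  set r' := blockDefect 2 Bb with hr'
  have har : blockDefect 2 B = 1 + r' := by
    have h1 := card_defectGroup hM hBb hDb
    have h3 := card_defectGroup hM hB hD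
    rw [hcardb] at h1
    rw [Q.hcard] at h3
    have := Nat.pow_right_injective le_rfl h1
    have := Nat.pow_right_injective le_rfl h3
    omega
  obtain ⟨ω, hω⟩ : ∃ ω : ℂ, IsPrimitiveRoot ω (2 ^ 1) :=
    ⟨_, Complex.isPrimitiveRoot_exp _ (pow_ne_zero 1 two_ne_zero)⟩
  choose c hcN hc using fun η : IrrCharacter G => exists_central_root htc η
  have hex : ∀ η : IrrCharacter G, ∃ i < 2 ^ 1, ω ^ i = c η := fun η => hω.eq_pow_of_pow_eq_one (by
    rw [pow_one, ← ht]
    exact hcN η)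
  choose j hj hjc using hex
  rw [SubForm.rank_eq hM hB htc (a := 1) (by rw [ht, pow_one]) hω hj (fun η w => by rw [hjc]; exact hc η w) hZ har
    hBb hsub rfl]
  omega

end Cfsg.Agent.Char.DihBlock
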