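import Cfsg.Agent.Lib.Char.DihedralBlock.Isometry
import Cfsg.Agent.Lib.Char.MajorSubsection

/-!
# The column of the central involution

Its entries are integers congruent to the column of the middle character and measure the heights.
-/

set_option autoImplicit false
set_option linter.unusedSectionVars false
set_option linter.style.haveILetI false

namespace Cfsg.Agent.Char.DihBlock

open Cfsg DihedralGroup
open scoped ComplexConjugate

universe u

section Split

variable {N : ℕ} [NeZero N]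

theorem sum_split {A : Type*} [AddCommMonoid A] {m : ℕ} (hN : N = 2 * m) (hm : 1 ≤ m) (F : ZMod N → A) :
    ∑ x, F x = F 0 + F ((m : ℕ) : ZMod N) +
      ∑ j : Fin (m - 1), (F (((j : ℕ) + 1 : ℕ) : ZMod N) + F (-(((j : ℕ) + 1 : ℕ) : ZMod N))) := by
  obtain ⟨q, rfl⟩ : ∃ q, m = q + 1 := ⟨m - 1, by omega⟩
  have h1 : ∑ x, F x = ∑ n ∈ Finset.range N, F (n : ZMod N) := by
    refine Finset.sum_bij (fun x _ => x.val) (fun x _ => Finset.mem_range.mpr (ZMod.val_lt x))
      (fun a _ b _ h => ZMod.val_injective N h) (fun n hn => ⟨(n : ZMod N), Finset.mem_univ _,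
        ZMod.val_cast_of_lt (Finset.mem_range.mp hn)⟩) fun x _ => by rw [ZMod.natCast_zmod_val]
  have h2 : ∑ n ∈ Finset.range q, F ((q + 1 + (n + 1) : ℕ) : ZMod N) =
      ∑ n ∈ Finset.range q, F (-((n + 1 : ℕ) : ZMod N)) := by
    rw [← Finset.sum_range_reflect]
    refine Finset.sum_congr rfl fun n hn => ?_
    have hn := Finset.mem_range.mp hn
    congr 1
    rw [eq_neg_iff_add_eq_zero, ← Nat.cast_add, show q + 1 + (q - 1 - n + 1) + (n + 1) = N by omega,
      ZMod.natCast_self]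
  rw [h1, show Finset.range N = Finset.range (q + 1 + (q + 1)) by rw [hN]; congr 1; omega, Finset.sum_range_add,
    Finset.sum_range_succ' _ q, Finset.sum_range_succ' (fun n => F ((q + 1 + n : ℕ) : ZMod N)) q, h2,
    add_tsub_cancel_right, Finset.sum_add_distrib, Fin.sum_univ_eq_sum_range (fun n => F ((n + 1 : ℕ) : ZMod N)),
    Fin.sum_univ_eq_sum_range (fun n => F (-((n + 1 : ℕ) : ZMod N))), Nat.cast_zero, add_zero]
  abel

variable {ζ : ℂ} (hζ : IsPrimitiveRoot ζ N)

theorem dihE_half (h2 : 2 ∣ N) : dihE hζ ((N / 2 : ℕ) : ZMod N) = -1 := by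
  have hlt : N / 2 < N := Nat.div_lt_self (Nat.pos_of_ne_zero (NeZero.ne N)) one_lt_two
  have hpos : 0 < N / 2 := Nat.div_pos (Nat.le_of_dvd (Nat.pos_of_ne_zero (NeZero.ne N)) h2) two_pos
  rw [dihE_natCast]
  refine (mul_self_eq_one_iff.mp ?_).resolve_left (hζ.pow_ne_one_of_pos_of_lt hpos.ne' hlt)
  rw [← pow_add, ← two_mul, Nat.mul_div_cancel' h2, hζ.pow_eq_one]

end Split

variable {G : Type u} [Group G] [Fintype G]
variable {M : Ideal AlgInt} {B : Set (IrrCharacter G)} {N : ℕ} [NeZero N] {z : G}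
  [Fintype (Subgroup.centralizer ({z} : Set G))] (S : DBlock M B N z) {ζ : ℂ} (hζ : IsPrimitiveRoot ζ N)

/-- The `j`-th rotation index below the middle. -/
def jz (N : ℕ) (j : Fin (N / 2 - 1)) : ZMod N := (((j : ℕ) + 1 : ℕ) : ZMod N)

theorem jz_ne {j : Fin (N / 2 - 1)} : jz N j ≠ 0 ∧ jz N j ≠ ((N / 2 : ℕ) : ZMod N) := by
  have := j.2
  constructor
  · rw [jz, Ne, ZMod.natCast_eq_zero_iff]
    intro h
    have := Nat.le_of_dvd (Nat.succ_pos _) h
    omega
  · intro h
    have h' := congrArg ZMod.val h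
    rw [jz, ZMod.val_cast_of_lt (by omega), ZMod.val_cast_of_lt (by omega)] at h'
    omega

theorem jz_pair {i j : Fin (N / 2 - 1)} : (jz N i = jz N j ↔ i = j) ∧ jz N i ≠ -jz N j := by
  have := i.2
  have := j.2
  refine ⟨⟨fun h => ?_, fun h => h ▸ rfl⟩, fun h => ?_⟩
  · have h' := congrArg ZMod.val h
    rw [jz, jz, ZMod.val_cast_of_lt (by omega), ZMod.val_cast_of_lt (by omega)] at h'
    exact Fin.ext (by omega)
  · rw [jz, jz, eq_neg_iff_add_eq_zero, ← Nat.cast_add, ZMod.natCast_eq_zero_iff] at h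
    have := Nat.le_of_dvd (by omega) h
    omega

theorem tau_inner {a b : ZMod N} (ha : a ≠ 0) (hb : b ≠ 0) :
    classInner (tau hζ a) (tau hζ b) = 2 + ((if a = b then 1 else 0) + if a = -b then (1 : ℂ) else 0) := by
  rw [tau, tau, classInner_sub_left, classInner_sub_right, classInner_sub_right, dth_inner, dth_inner, dth_inner,
    dth_inner, if_pos rfl, if_pos neg_zero.symm, if_neg hb.symm, if_neg fun h => hb (neg_eq_zero.mp h.symm),
    if_neg ha, if_neg (by rwa [neg_zero])]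
  ring

namespace DBlock

/-- The integral coefficient of a difference. -/
noncomputable def cf (S : DBlock M B N z) (hζ : IsPrimitiveRoot ζ N) (j : ZMod N) (χ : IrrCharacter G) : ℤ :=
  (S.v_tau_int hζ j χ).choose

theorem cf_spec (j : ZMod N) (χ : IrrCharacter G) : S.v (tau hζ j) χ = (S.cf hζ j χ : ℂ) :=
  (S.v_tau_int hζ j χ).choose_spec

theorem cf_gram (a b : ZMod N) (ha : a ≠ 0) (hb : b ≠ 0) :
    ((∑ χ ∈ bset B, S.cf hζ a χ * S.cf hζ b χ : ℤ) : ℂ) =
      2 + ((if a = b then 1 else 0) + if a = -b then (1 : ℂ) else 0) := by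
  rw [← tau_inner hζ ha hb, ← S.parseval (tau_isClass hζ a) (onRot_tau hζ a) (tau_isClass hζ b) (onRot_tau hζ b)]
  push_cast
  exact Finset.sum_congr rfl fun χ _ => by rw [S.cf_spec, S.cf_spec, map_intCast]

/-- The column of the central involution. -/
noncomputable def col (S : DBlock M B N z) (χ : IrrCharacter G) : ℂ :=
  S.v ((N : ℂ) • ind ((N / 2 : ℕ) : ZMod N)) χ

/-- The signs. -/
noncomputable def sgn (_ : DBlock M B N z) (j : Fin (N / 2 - 1)) : ℤ := (-1) ^ ((j : ℕ) + 1)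

theorem col_eq (χ : IrrCharacter G) :
    S.col χ = ((-S.cf hζ ((N / 2 : ℕ) : ZMod N) χ - 2 * ∑ j, S.sgn j * S.cf hζ (jz N j) χ : ℤ) : ℂ) := by
  set h : ZMod N := ((N / 2 : ℕ) : ZMod N) with hh
  obtain ⟨a, ha⟩ := S.hN
  have h2 := S.two_dvd
  have hN2 : N = 2 * (N / 2) := (Nat.mul_div_cancel' h2).symm
  have hhh : h * h = 0 := by
    rw [hh, ← Nat.cast_mul, ZMod.natCast_eq_zero_iff]
    refine ⟨2 ^ a, ?_⟩
    rw [ha, pow_add, show 2 ^ a * 2 ^ 2 / 2 = 2 ^ a * 2 by rw [show (2 : ℕ) ^ 2 = 4 from rfl]; omega]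
    ring
  have hneg : ∀ x : ZMod N, h * -x = h * x := fun x => by
    have h0 : h + h = 0 := by rw [hh, ← Nat.cast_add, ← two_mul, ← hN2, ZMod.natCast_self]
    linear_combination (-x) * h0
  have hj : ∀ j : Fin (N / 2 - 1), dihE hζ (h * jz N j) = (S.sgn j : ℂ) := fun j => by
    rw [jz, hh, ← Nat.cast_mul, dihE_natCast, pow_mul, ← dihE_natCast hζ (N / 2), dihE_half hζ h2, sgn]
    push_cast
    rfl
  rw [col, ← hh, ind_eq_tau hζ (half_ne h2), ← neg_one_smul ℂ (∑ j, _), v_smul, v_sum,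
    sum_split hN2 (Nat.div_pos (Nat.le_of_dvd (Nat.pos_of_ne_zero (NeZero.ne N)) h2) two_pos)]
  simp only [← hh, hneg, tau_neg, hhh, AddChar.map_zero_eq_one, S.cf_spec hζ]
  have h0 : (S.cf hζ 0 χ : ℂ) = 0 := by
    rw [← S.cf_spec, show tau hζ (0 : ZMod N) = 0 from sub_self _, v, ← S.thL_apply, map_zero, classInner_zero_left]
  simp only [mul_zero, h0, zero_add]
  change -1 * (_ + ∑ j : Fin (N / 2 - 1), (dihE hζ (h * jz N j) * (S.cf hζ (jz N j) χ : ℂ) +
    dihE hζ (h * jz N j) * (S.cf hζ (jz N j) χ : ℂ))) = _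
  simp only [hj, ← two_mul, ← Finset.mul_sum]
  push_cast
  ring

/-- The column as an integer. -/
noncomputable def colZ (S : DBlock M B N z) (hζ : IsPrimitiveRoot ζ N) (χ : IrrCharacter G) : ℤ :=
  -S.cf hζ ((N / 2 : ℕ) : ZMod N) χ - 2 * ∑ j, S.sgn j * S.cf hζ (jz N j) χ

include hζ in
theorem conj_col (χ : IrrCharacter G) : conj (S.col χ) = S.col χ := by
  rw [S.col_eq hζ, map_intCast]

theorem indHalf_isClass (_S : DBlock M B N z) :
    IsClassFunction _ ((N : ℂ) • ind ((N / 2 : ℕ) : ZMod N) : DihedralGroup N → ℂ) :=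
  fun g k => by simp only [Pi.smul_apply, ind_isClass _ g k]

theorem orderOf_half (S : DBlock M B N z) : orderOf (r ((N / 2 : ℕ) : ZMod N) : DihedralGroup N) = 2 := by
  rw [← orderOf_d S, S.d_half, ← Subgroup.orderOf_coe]
  exact S.orderOf_z

include hζ in
theorem blockPart_section (χ : IrrCharacter G) (s : Subgroup.centralizer ({z} : Set G)) (hs : ¬ 2 ∣ orderOf s) :
    blockPart S.f (secFun z (χ : G → ℂ)) s =
      S.col χ * (S.ψ : Subgroup.centralizer ({z} : Set G) → ℂ) (S.zC * s) := by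
  classical
  set R : Subgroup.centralizer ({z} : Set G) → ℂ := fun c => (χ : G → ℂ) (c : G) with hR
  have hres : IsClassFunction _ R := isClassFunction_restrict (isClassFunction_character (irr_isCharacter χ.2))
  have e : blockPart S.f (secFun z (χ : G → ℂ)) s = blockPart S.f R (S.zC * s) := by
    rw [← sum_blockCoeff_shift S.f (isClassFunction_secFun (isClassFunction_character (irr_isCharacter χ.2))) s,
      ← sum_blockCoeff_shift S.f hres (S.zC * s)]
    refine Finset.sum_congr rfl fun k _ => ?_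
    congr 1
    show (χ : G → ℂ) (z * ((k : G) * (s : G))) = (χ : G → ℂ) ((k : G) * (z * (s : G)))
    rw [← mul_assoc, cent_mul_comm k, mul_assoc]
  obtain ⟨μ, hμ, hbp⟩ := S.exists_th (F := R)
  have hval : μ (r ((N / 2 : ℕ) : ZMod N)) = S.col χ := by
    rw [← inner_ind hμ, ← S.th_inner hμ S.indHalf_isClass, ← hbp, S.inner_blockPart S.indHalf_isClass,
      ← classInner_symm, show classInner (S.th _) R = S.col χ from rfl, S.conj_col hζ]
  rw [e, hbp, S.th_const hμ (c := S.col χ)]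
  intro w y hy
  have hp : ppt 2 (S.zC * s) = S.zC := ppt_mul Nat.prime_two (S.zC_comm s)
    ⟨1, by rw [← S.d_half, orderOf_d, pow_one]; exact S.orderOf_half⟩ hs
  rw [hp, ← S.zC_comm w, mul_inv_cancel_right, ← S.d_half] at hy
  rw [← S.ι.injective (Subtype.ext hy)]
  exact hval

open scoped Classical in
theorem mass :
    (Nat.card (Subgroup.centralizer ({z} : Set G)) : ℂ)⁻¹ *
      ∑ s : Subgroup.centralizer ({z} : Set G) with ¬ 2 ∣ orderOf s,
        (S.ψ : Subgroup.centralizer ({z} : Set G) → ℂ) s * conj ((S.ψ : Subgroup.centralizer ({z} : Set G) → ℂ) s) =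
      ((2 * N : ℕ) : ℂ)⁻¹ := by
  set δ : DihedralGroup N → ℂ := fun y => if y = 1 then 1 else 0 with hδd
  have hδ : IsClassFunction _ δ := fun g k => by
    simp only [hδd, conj_eq_one_iff]
  have hth : ∀ s : Subgroup.centralizer ({z} : Set G), S.th δ s =
      if ¬ 2 ∣ orderOf s then (S.ψ : Subgroup.centralizer ({z} : Set G) → ℂ) s else 0 := by
    intro s
    split_ifs with h
    · refine S.th_eq_zero hδ fun w y hy => if_neg ?_
      rintro rfl
      have h1 : w * ppt 2 s * w⁻¹ = 1 := hy.trans (by simp [d])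
      exact (ppt_eq_one_iff Nat.prime_two s).mp (conj_eq_one_iff.mp h1) h
    · rw [S.th_regular hδ h, hδd]
      simp
  have h := S.th_inner hδ hδ
  simp only [classInner, hth] at h
  simp only [hδd] at h
  simp only [apply_ite conj, map_one, map_zero, ite_mul, zero_mul, mul_ite, mul_zero, mul_one] at h
  simp only [← Finset.sum_filter, Finset.filter_filter, Finset.sum_const, DihedralGroup.nat_card] at h
  rw [show (Finset.univ.filter fun y : DihedralGroup N => y = 1 ∧ y = 1).card = 1 by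
    simp [Finset.filter_eq']] at h
  simpa using h

include hζ in
open scoped Classical in
theorem heights :
    (∀ χ ∈ B, S.colZ hζ χ ≠ 0 ∧ (Odd (S.colZ hζ χ) → blockHeight 2 B (χ : G → ℂ) = 0) ∧
      ((S.colZ hζ χ = 2 ∨ S.colZ hζ χ = -2) → blockHeight 2 B (χ : G → ℂ) = 1)) ∧
    ∃ χ ∈ B, Odd (S.colZ hζ χ) := by
  have hP := pmod_prime S.hM
  have hzo : orderOf z = 2 ^ 1 := by rw [pow_one]; exact S.orderOf_z
  choose Z hZ1 hZ using fun η => exists_central_root S.zC_comm η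
  have hzC : orderOf S.zC = 2 := by rw [← Subgroup.orderOf_coe]; exact S.orderOf_z
  have hzk : ∀ η, Z η ^ 2 ^ 1 = 1 := fun η => by rw [pow_one, ← hzC]; exact hZ1 η
  have hzc : ∀ η, conj (Z η) = (Z η)⁻¹ := fun η => Star.conj_root two_ne_zero (by simpa using hzk η)
  have hψz : ∀ s, (S.ψ : Subgroup.centralizer ({z} : Set G) → ℂ) (S.zC * s) *
      conj ((S.ψ : Subgroup.centralizer ({z} : Set G) → ℂ) (S.zC * s)) =
      (S.ψ : Subgroup.centralizer ({z} : Set G) → ℂ) s * conj ((S.ψ : Subgroup.centralizer ({z} : Set G) → ℂ) s) :=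
    fun s => by
    rw [hZ, map_mul, hzc, mul_mul_mul_comm, mul_inv_cancel₀, one_mul]
    intro h
    have := hzk S.ψ
    simp [h] at this
  have hctr : ∀ χ φ : IrrCharacter G,
      ctr 2 S.f Z χ φ = ((S.colZ hζ χ * S.colZ hζ φ : ℤ) : ℂ) := by
    intro χ φ
    rw [← MajorSub.sum_locFun_mul_conj hzc S.hM S.hf χ φ]
    rw [Finset.sum_congr rfl (g := fun s => ((S.colZ hζ χ * S.colZ hζ φ : ℤ) : ℂ) *
      ((S.ψ : Subgroup.centralizer ({z} : Set G) → ℂ) s *
        conj ((S.ψ : Subgroup.centralizer ({z} : Set G) → ℂ) s))) fun s hs => ?_]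
    · rw [← Finset.mul_sum, ← hψz_mass S hζ χ φ]
    · have hs' := (Finset.mem_filter.mp hs).2
      rw [← MajorSub.blockPart_secFun_eq hZ, ← MajorSub.blockPart_secFun_eq hZ, S.blockPart_section hζ χ s hs',
        S.blockPart_section hζ φ s hs', map_mul, ← hψz s, S.conj_col hζ, S.col_eq hζ χ, S.col_eq hζ φ]
      simp only [colZ]
      push_cast
      ring
  obtain ⟨χ0, hχ0, h00⟩ := exists_height_zero (p := 2) (block_nonempty hP S.hB)
  have hmaj : ∀ χ ∈ B, ∃ w : ℂ, MemLocalRing M w ∧ ((S.colZ hζ χ * S.colZ hζ χ0 : ℤ) : ℂ) =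
      (2 : ℂ) ^ blockHeight 2 B (χ : G → ℂ) * w ∧ ¬ MemLocalIdeal M w := fun χ hχ => by
    obtain ⟨w, hw1, hw2, hw3⟩ := MajorSub.major_unit hZ hzk S.hM hzo S.hind S.hdef hχ hχ0
    refine ⟨w, hw1, ?_, fun h => hw3.mp h h00⟩
    rw [← hctr]
    exact_mod_cast hw2
  have hodd0 : Odd (S.colZ hζ χ0) := by
    obtain ⟨w, -, hw, hnot⟩ := hmaj χ0 hχ0
    rw [h00, pow_zero, one_mul] at hw
    rw [← Int.not_even_iff_odd]
    intro hev
    refine hnot (hw ▸ (memLI_intCast_iff S.hM _).mpr ?_)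
    exact dvd_mul_of_dvd_left (even_iff_two_dvd.mp hev) _
  refine ⟨fun χ hχ => ?_, χ0, hχ0, hodd0⟩
  obtain ⟨w, hwR, hw, hnot⟩ := hmaj χ hχ
  have h20 : (2 : ℂ) ^ blockHeight 2 B (χ : G → ℂ) ≠ 0 := pow_ne_zero _ two_ne_zero
  have h2LI : MemLocalIdeal M (2 : ℂ) := by exact_mod_cast memLI_p S.hM
  refine ⟨fun h0 => ?_, fun hodd => ?_, fun htwo => ?_⟩
  · rw [h0, zero_mul, Int.cast_zero] at hw
    exact hnot (by rw [(mul_eq_zero.mp hw.symm).resolve_left h20]; exact memLI_zero hP)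
  · by_contra hne
    obtain ⟨k, hk⟩ : ∃ k, blockHeight 2 B (χ : G → ℂ) = k + 1 := ⟨_, (Nat.succ_pred hne).symm⟩
    have hLI : MemLocalIdeal M ((S.colZ hζ χ * S.colZ hζ χ0 : ℤ) : ℂ) := by
      rw [hw, hk, pow_succ', mul_assoc]
      exact memLI_mul_right hP h2LI (memLR_mul hP (memLR_pow hP (by exact_mod_cast memLR_natCast hP 2) k) hwR)
    have h := (memLI_intCast_iff S.hM _).mp hLI
    exact Int.not_even_iff_odd.mpr (hodd.mul hodd0) (even_iff_two_dvd.mpr h)
  · rcases hh : blockHeight 2 B (χ : G → ℂ) with _ | _ | k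
    · exfalso
      rw [hh, pow_zero, one_mul] at hw
      refine hnot (hw ▸ (memLI_intCast_iff S.hM _).mpr ?_)
      exact dvd_mul_of_dvd_left (by rcases htwo with e | e <;> rw [e] <;> norm_num) _
    · rfl
    · exfalso
      rw [hh, pow_succ', mul_assoc] at hw
      have hLI : MemLocalIdeal M ((2 : ℂ) ^ (k + 1) * w) := by
        rw [pow_succ', mul_assoc]
        exact memLI_mul_right hP h2LI (memLR_mul hP (memLR_pow hP (by exact_mod_cast memLR_natCast hP 2) k) hwR)
      have e : ((S.colZ hζ χ0 : ℤ) : ℂ) = (2 : ℂ) ^ (k + 1) * w ∨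
          ((-S.colZ hζ χ0 : ℤ) : ℂ) = (2 : ℂ) ^ (k + 1) * w := by
        rcases htwo with e | e <;> rw [e] at hw <;> push_cast at hw ⊢
        · exact Or.inl (mul_left_cancel₀ two_ne_zero hw)
        · exact Or.inr (mul_left_cancel₀ two_ne_zero (by linear_combination hw))
      rcases e with e | e <;> rw [← e] at hLI <;>
        have h := (memLI_intCast_iff S.hM _).mp hLI
      · exact Int.not_even_iff_odd.mpr hodd0 (even_iff_two_dvd.mpr h)
      · exact Int.not_even_iff_odd.mpr hodd0 (even_iff_two_dvd.mpr (dvd_neg.mp h))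
where
  hψz_mass (S : DBlock M B N z) {ζ : ℂ} (hζ : IsPrimitiveRoot ζ N) (χ φ : IrrCharacter G) :
      ((S.colZ hζ χ * S.colZ hζ φ : ℤ) : ℂ) = ((2 : ℕ) : ℂ) ^ blockDefect 2 S.f *
        (Nat.card (Subgroup.centralizer ({z} : Set G)) : ℂ)⁻¹ * (((S.colZ hζ χ * S.colZ hζ φ : ℤ) : ℂ) *
        ∑ s : Subgroup.centralizer ({z} : Set G) with ¬ 2 ∣ orderOf s,
          (S.ψ : Subgroup.centralizer ({z} : Set G) → ℂ) s *
            conj ((S.ψ : Subgroup.centralizer ({z} : Set G) → ℂ) s)) := by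
    have e : ((2 : ℕ) : ℂ) ^ blockDefect 2 S.f = ((2 * N : ℕ) : ℂ) := by rw [← S.two_pow_defect]; push_cast; rfl
    rw [e, mul_assoc, mul_left_comm ((Nat.card _ : ℂ)⁻¹), S.mass]
    have : ((2 * N : ℕ) : ℂ) ≠ 0 := Nat.cast_ne_zero.mpr (mul_ne_zero two_ne_zero (NeZero.ne N))
    field_simp

end DBlock

end Cfsg.Agent.Char.DihBlock
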