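import Cfsg.Agent.Lib.Char.DihedralSelect
import Mathlib.Data.Complex.Basic

/-!
# Integral vectors of norms three and four for a dihedral defect group

A vector of norm four and vectors of norm three with all products two either share a pair of places, or (at most
three of them) pairwise share one place of the first vector and all share the place outside.
-/

set_option autoImplicit false

namespace Cfsg.Agent.Char.DihBlock

variable {X J : Type*}

/-- The shape of the norm four vector. -/
theorem norm_four [DecidableEq X] {S : Finset X} {w : X → ℤ} (hw : ∑ x ∈ S, w x * w x = 4)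
    (hodd : ∃ x ∈ S, Odd (w x)) :
    (∀ x ∈ S, w x = -1 ∨ w x = 0 ∨ w x = 1) ∧ (S.filter fun x => w x ≠ 0).card = 4 := by
  have hle : ∀ x ∈ S, w x = -1 ∨ w x = 0 ∨ w x = 1 := by
    intro x hx
    have hsplit := Finset.add_sum_erase S (fun y => w y * w y) hx
    have hnn : 0 ≤ ∑ y ∈ S.erase x, w y * w y := Finset.sum_nonneg fun y _ => mul_self_nonneg _
    by_contra h
    have h4 : 4 ≤ w x * w x := by
      rcases (show w x ≤ -2 ∨ 2 ≤ w x by omega) with h' | h' <;> nlinarith
    have h0 : ∀ y ∈ S.erase x, w y = 0 := fun y hy => mul_self_eq_zero.mp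
      ((Finset.sum_eq_zero_iff_of_nonneg fun z _ => mul_self_nonneg (w z)).mp (by linarith) y hy)
    obtain ⟨y, hy, k, hk⟩ := hodd
    rcases eq_or_ne y x with rfl | hne
    · have he : ∑ z ∈ S.erase y, w z * w z = 0 := Finset.sum_eq_zero fun z hz => by rw [h0 z hz, mul_zero]
      rw [hw, he, add_zero, hk] at hsplit
      have h8 : (4 : ℤ) * (k * k + k) = 3 := by linarith
      omega
    · have := h0 y (Finset.mem_erase.mpr ⟨hne, hy⟩)
      omega
  refine ⟨hle, ?_⟩
  have h : ∑ x ∈ S, w x * w x = ∑ x ∈ S, if w x ≠ 0 then (1 : ℤ) else 0 := by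
    refine Finset.sum_congr rfl fun x hx => ?_
    rcases hle x hx with h | h | h <;> simp [h]
  rw [hw, ← Finset.sum_filter, Finset.sum_const, nsmul_eq_mul, mul_one] at h
  exact_mod_cast h.symm

/-- The places of the norm four vector at which a norm three vector agrees with it. -/
theorem agree_two [DecidableEq X] {S : Finset X} {w v : X → ℤ} (hw : ∀ x ∈ S, w x = -1 ∨ w x = 0 ∨ w x = 1)
    (hv : ∑ x ∈ S, v x * v x = (3 : ℕ)) (hvw : ∑ x ∈ S, v x * w x = 2) :
    ∃ (P : Finset X) (f : X) (ε : ℤ), P ⊆ S ∧ P.card = 2 ∧ (∀ x ∈ P, w x ≠ 0) ∧ f ∈ S ∧ w f = 0 ∧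
      (ε = 1 ∨ ε = -1) ∧ ∀ x ∈ S, v x = (if x ∈ P then w x else 0) + if x = f then ε else 0 := by
  obtain ⟨hv1, hcard⟩ := small_norm le_rfl hv
  set T := S.filter fun x => v x ≠ 0 with hT
  set P := T.filter fun x => w x ≠ 0 with hP
  have hsum : ∑ x ∈ P, v x * w x = 2 := by
    rw [← hvw]
    refine Finset.sum_subset ((Finset.filter_subset _ _).trans (Finset.filter_subset _ _)) fun x hx hn => ?_
    rcases eq_or_ne (v x) 0 with h | h
    · rw [h, zero_mul]
    · have : w x = 0 := by
        by_contra h'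
        exact hn (Finset.mem_filter.mpr ⟨Finset.mem_filter.mpr ⟨hx, h⟩, h'⟩)
      rw [this, mul_zero]
  have hterm : ∀ x ∈ P, v x * w x = 1 ∨ v x * w x = -1 := fun x hx => by
    obtain ⟨hxT, hwx⟩ := Finset.mem_filter.mp hx
    obtain ⟨hxS, hvx⟩ := Finset.mem_filter.mp hxT
    rcases hv1 x hxS with h | h | h <;> rcases hw x hxS with h' | h' | h' <;>
      simp_all
  have hle : P.card ≤ 3 := hcard ▸ Finset.card_filter_le _ _
  have hge : 2 ≤ P.card := by
    have : ∑ x ∈ P, v x * w x ≤ ∑ _x ∈ P, (1 : ℤ) := Finset.sum_le_sum fun x hx => by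
      rcases hterm x hx with h | h <;> omega
    rw [hsum, Finset.sum_const, nsmul_eq_mul, mul_one] at this
    exact_mod_cast this
  have hpar : ∃ c : ℤ, ∑ x ∈ P, v x * w x = P.card + 2 * c := by
    refine ⟨∑ x ∈ P, if v x * w x = 1 then 0 else -1, ?_⟩
    rw [Finset.mul_sum, Finset.card_eq_sum_ones P, Nat.cast_sum, ← Finset.sum_add_distrib]
    refine Finset.sum_congr rfl fun x hx => ?_
    rcases hterm x hx with h | h <;> simp [h]
  have h2 : P.card = 2 := by
    obtain ⟨c, hc⟩ := hpar
    omega
  have hone : ∀ x ∈ P, v x = w x := fun x hx => by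
    have h1 : v x * w x = 1 := by
      rcases hterm x hx with h | h
      · exact h
      · have h' := Finset.add_sum_erase P (fun y => v y * w y) hx
        have : ∑ y ∈ P.erase x, v y * w y ≤ ∑ _y ∈ P.erase x, (1 : ℤ) := Finset.sum_le_sum fun y hy => by
          rcases hterm y (Finset.mem_of_mem_erase hy) with e | e <;> omega
        rw [Finset.sum_const, Finset.card_erase_of_mem hx, h2] at this
        simp at this
        linarith
    exact Int.eq_one_or_neg_one_of_mul_eq_one' h1 |>.elim (fun e => e.1.trans e.2.symm)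
      fun e => e.1.trans e.2.symm
  obtain ⟨f, hf⟩ : ∃ f, T \ P = {f} := Finset.card_eq_one.mp (by
    rw [Finset.card_sdiff_of_subset (Finset.filter_subset _ _), hcard, h2])
  have hfm : f ∈ T \ P := hf ▸ Finset.mem_singleton_self f
  obtain ⟨hfT, hfP⟩ := Finset.mem_sdiff.mp hfm
  obtain ⟨hfS, hfv⟩ := Finset.mem_filter.mp hfT
  have hwf : w f = 0 := by
    by_contra h
    exact hfP (Finset.mem_filter.mpr ⟨hfT, h⟩)
  refine ⟨P, f, v f, (Finset.filter_subset _ _).trans (Finset.filter_subset _ _), h2,
    fun x hx => (Finset.mem_filter.mp hx).2, hfS, hwf,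
    by rcases hv1 f hfS with h | h | h <;> simp_all, fun x hx => ?_⟩
  by_cases hxP : x ∈ P
  · rw [if_pos hxP, if_neg (fun (h : x = f) => hfP (h ▸ hxP)), add_zero, hone x hxP]
  · rw [if_neg hxP, zero_add]
    split_ifs with h
    · rw [h]
    · by_contra hne
      have : x ∈ T \ P := Finset.mem_sdiff.mpr ⟨Finset.mem_filter.mpr ⟨hx, hne⟩, hxP⟩
      rw [hf, Finset.mem_singleton] at this
      exact h this

/-- The exceptional shape: pairs meeting in one place and a common place outside. -/
def Exotic (S : Finset X) (w : X → ℤ) (u : J → X → ℤ) [DecidableEq X] : Prop :=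
  (∀ x ∈ S, w x = -1 ∨ w x = 0 ∨ w x = 1) ∧ (S.filter fun x => w x ≠ 0).card = 4 ∧
  ∃ (P : J → Finset X) (f : X) (ε : ℤ), f ∈ S ∧ w f = 0 ∧ (∀ j, P j ⊆ S ∧ (P j).card = 2 ∧ ∀ x ∈ P j, w x ≠ 0) ∧
    (∀ i j, i ≠ j → (P i ∩ P j).card = 1) ∧
    ∀ j, ∀ x ∈ S, u j x = (if x ∈ P j then w x else 0) + if x = f then ε else 0

/-- A column of signs selects either the standard shape or the exceptional one. -/
theorem select [DecidableEq X] [Fintype J] {S : Finset X} {w : X → ℤ} {u : J → X → ℤ} {d : X → ℤ} {σ : J → ℤ}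
    (hσ : ∀ j, σ j = 1 ∨ σ j = -1) (hd : ∀ x ∈ S, d x = -w x - 2 * ∑ j, σ j * u j x)
    (hd0 : ∀ x ∈ S, d x ≠ 0) (hodd : ∃ x ∈ S, Odd (d x))
    (hw : ∑ x ∈ S, w x * w x = 4) (hu : ∀ j, ∑ x ∈ S, u j x * u j x = (3 : ℕ))
    (hij : ∀ i j, i ≠ j → ∑ x ∈ S, u i x * u j x = 2) (hiw : ∀ j, ∑ x ∈ S, u j x * w x = 2) :
    (S.card = Fintype.card J + 4 ∧ (S.filter fun x => Odd (d x)).card = 4 ∧
      ∀ x ∈ S, ¬ Odd (d x) → d x = 2 ∨ d x = -2) ∨
    (Fintype.card J ≤ 3 ∧ 2 ≤ Fintype.card J ∧ Exotic S w u) := by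
  classical
  have hodd' : ∃ x ∈ S, Odd (w x) := by
    obtain ⟨x, hx, h⟩ := hodd
    refine ⟨x, hx, ?_⟩
    rw [hd x hx, Int.odd_sub] at h
    exact odd_neg.mp (h.mpr (even_two_mul _))
  obtain ⟨hw1, hW⟩ := norm_four hw hodd'
  set W := S.filter fun x => w x ≠ 0 with hWdef
  choose P f ε hPS hP2 hPw hfS hfw hε huf using fun j => agree_two hw1 (hu j) (hiw j)
  have hPW : ∀ j, P j ⊆ W := fun j x hx => Finset.mem_filter.mpr ⟨hPS j hx, hPw j x hx⟩
  have hpair : ∀ i j, i ≠ j →
      (f i = f j ∧ ε i = ε j ∧ (P i ∩ P j).card = 1) ∨ (f i ≠ f j ∧ P i = P j) := by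
    intro i j hne
    have hprod : ∀ x ∈ S, u i x * u j x =
        (if x ∈ P i ∩ P j then 1 else 0) + if x = f i then (if f i = f j then ε i * ε j else 0) else 0 := by
      intro x hx
      rw [huf i x hx, huf j x hx]
      by_cases h1 : x = f i
      · subst h1
        have n1 : f i ∉ P i := fun h => hPw i _ h (hfw i)
        have n2 : f i ∉ P j := fun h => hPw j _ h (hfw i)
        simp [n1, n2, mul_ite]
      · by_cases h2 : x = f j
        · subst h2
          have n1 : f j ∉ P i := fun h => hPw i _ h (hfw j)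
          have n2 : f j ∉ P j := fun h => hPw j _ h (hfw j)
          simp [n1, n2, h1]
        · rcases hw1 x hx with hv | hv | hv <;>
            by_cases a : x ∈ P i <;> by_cases b : x ∈ P j <;> simp [h1, h2, a, b, hv] <;>
            exact absurd hv (hPw i x a)
    have h := hij i j hne
    rw [Finset.sum_congr rfl hprod, Finset.sum_add_distrib, Finset.sum_ite_mem, Finset.sum_const,
      nsmul_eq_mul, mul_one, Finset.inter_eq_right.mpr (Finset.inter_subset_left.trans (hPS i)),
      Finset.sum_ite_eq' S (f i), if_pos (hfS i)] at h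
    have hle : (P i ∩ P j).card ≤ 2 := hP2 i ▸ Finset.card_le_card Finset.inter_subset_left
    by_cases he : f i = f j
    · rw [if_pos he] at h
      left
      rcases hε i with a | a <;> rcases hε j with b | b <;> rw [a, b] at h ⊢ <;>
        refine ⟨he, ?_, ?_⟩ <;> omega
    · rw [if_neg he, add_zero] at h
      have hc : (P i ∩ P j).card = 2 := by exact_mod_cast h
      refine Or.inr ⟨he, ?_⟩
      have e1 := Finset.eq_of_subset_of_card_le (Finset.inter_subset_left (s₁ := P i) (s₂ := P j))
        (by rw [hc, hP2])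
      have e2 := Finset.eq_of_subset_of_card_le (Finset.inter_subset_right (s₁ := P i) (s₂ := P j))
        (by rw [hc, hP2])
      exact e1.symm.trans e2
  by_cases hex : ∃ i j, i ≠ j ∧ f i = f j
  · obtain ⟨i, j, hne, he⟩ := hex
    right
    have hall : ∀ k, f k = f i ∧ ε k = ε i := by
      intro k
      rcases eq_or_ne k i with rfl | hki
      · exact ⟨rfl, rfl⟩
      rcases hpair k i hki with h | ⟨-, hPk⟩
      · exact ⟨h.1, h.2.1⟩
      · exfalso
        have hPij : (P i ∩ P j).card = 1 := by
          rcases hpair i j hne with h | h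
          · exact h.2.2
          · exact absurd he h.1
        rcases eq_or_ne k j with rfl | hkj
        · rw [hPk, Finset.inter_self, hP2] at hPij
          omega
        · rcases hpair k j hkj with h | h
          · rcases hpair k i hki with h' | h'
            · rw [hPk, Finset.inter_self, hP2] at h'
              omega
            · exact h'.1 (h.1.trans he.symm)
          · rw [← hPk, h.2, Finset.inter_self, hP2] at hPij
            omega
    have hint : ∀ a b, a ≠ b → (P a ∩ P b).card = 1 := fun a b hab => by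
      rcases hpair a b hab with h | h
      · exact h.2.2
      · exact absurd ((hall a).1.trans (hall b).1.symm) h.1
    refine ⟨?_, ?_, hw1, hW, P, f i, ε i, hfS i, hfw i, fun k => ⟨hPS k, hP2 k, hPw k⟩, hint,
      fun k x hx => by rw [huf k x hx, (hall k).1, (hall k).2]⟩
    · obtain ⟨a0, ha0⟩ : W.Nonempty := Finset.card_pos.mp (by omega)
      have h3 : ((W.erase a0).powersetCard 1).card = 3 := by
        rw [Finset.card_powersetCard, Finset.card_erase_of_mem ha0, hW]; rfl
      rw [← Finset.card_univ, ← h3]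
      refine Finset.card_le_card_of_injOn (fun k => (if a0 ∈ P k then P k else W \ P k).erase a0)
        (fun k _ => ?_) ?_
      · have hm : a0 ∈ (if a0 ∈ P k then P k else W \ P k) ∧ (if a0 ∈ P k then P k else W \ P k) ⊆ W ∧
            (if a0 ∈ P k then P k else W \ P k).card = 2 := by
          split_ifs with h
          · exact ⟨h, hPW k, hP2 k⟩
          · exact ⟨Finset.mem_sdiff.mpr ⟨ha0, h⟩, Finset.sdiff_subset,
              by rw [Finset.card_sdiff_of_subset (hPW k), hW, hP2]⟩
        rw [Finset.mem_coe, Finset.mem_powersetCard, Finset.card_erase_of_mem hm.1, hm.2.2]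
        exact ⟨Finset.erase_subset_erase _ hm.2.1, rfl⟩
      · intro a _ b _ hab
        by_contra hne'
        have h1 := hint a b hne'
        have ea : ∀ k, a0 ∈ (if a0 ∈ P k then P k else W \ P k) := fun k => by
          split_ifs with h
          · exact h
          · exact Finset.mem_sdiff.mpr ⟨ha0, h⟩
        have e : (if a0 ∈ P a then P a else W \ P a) = if a0 ∈ P b then P b else W \ P b := by
          rw [← Finset.insert_erase (ea a), ← Finset.insert_erase (ea b)]
          exact congrArg (insert a0) hab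
        split_ifs at e with h h'
        · rw [e, Finset.inter_self, hP2] at h1; omega
        · rw [e, Finset.inter_comm, Finset.inter_sdiff_self, Finset.card_empty] at h1; omega
        · rw [← e, Finset.inter_sdiff_self, Finset.card_empty] at h1; omega
        · have := congrArg (fun T => W \ T) e
          simp only [Finset.sdiff_sdiff_eq_self (hPW a), Finset.sdiff_sdiff_eq_self (hPW b)] at this
          rw [this, Finset.inter_self, hP2] at h1; omega
    · exact Fintype.one_lt_card_iff.mpr ⟨i, j, hne⟩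
  · left
    push Not at hex
    have hP : ∀ i j, P i = P j := fun i j => by
      rcases eq_or_ne i j with rfl | hne
      · rfl
      · rcases hpair i j hne with h | h
        · exact absurd h.1 (hex i j hne)
        · exact h.2
    have hinj : Function.Injective f := fun a b h => by
      by_contra hne; exact hex a b hne h
    set F := Finset.univ.image f with hF
    have hFS : ∀ x ∈ F, x ∈ S ∧ w x = 0 := fun x hx => by
      obtain ⟨k, -, rfl⟩ := Finset.mem_image.mp hx
      exact ⟨hfS k, hfw k⟩
    have hoddW : ∀ x ∈ S, (Odd (d x) ↔ w x ≠ 0) := fun x hx => by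
      rw [hd x hx, Int.odd_sub, iff_true_right (even_two_mul _), odd_neg]
      rcases hw1 x hx with h | h | h <;> simp [h]
    have hS : S = W ∪ F := by
      refine Finset.Subset.antisymm (fun x hx => ?_) (Finset.union_subset (Finset.filter_subset _ _)
        fun x hx => (hFS x hx).1)
      by_cases hwx : w x = 0
      · refine Finset.mem_union_right _ ?_
        by_contra hxF
        refine hd0 x hx ?_
        rw [hd x hx, hwx, Finset.sum_eq_zero fun k _ => ?_]
        · simp
        · rw [huf k x hx, if_neg fun h => hPw k x h hwx,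
            if_neg fun (h : x = f k) => hxF (Finset.mem_image.mpr ⟨k, Finset.mem_univ _, h.symm⟩)]
          simp
      · exact Finset.mem_union_left _ (Finset.mem_filter.mpr ⟨hx, hwx⟩)
    refine ⟨?_, ?_, fun x hx hev => ?_⟩
    · rw [hS, Finset.card_union_of_disjoint, hW, Finset.card_image_of_injective _ hinj, Finset.card_univ,
        add_comm]
      rw [Finset.disjoint_left]
      exact fun x hx hxF => (Finset.mem_filter.mp hx).2 (hFS x hxF).2
    · rw [← hW]
      exact congrArg Finset.card (Finset.filter_congr fun x hx => by rw [hoddW x hx])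
    · have hwx : w x = 0 := by
        by_contra h
        exact hev ((hoddW x hx).mpr h)
      have hxF : x ∈ F := by
        rw [hS] at hx
        rcases Finset.mem_union.mp hx with h | h
        · exact absurd hwx (Finset.mem_filter.mp h).2
        · exact h
      obtain ⟨k, -, rfl⟩ := Finset.mem_image.mp hxF
      rw [hd _ hx, hwx, Finset.sum_eq_single k]
      · rw [huf k _ hx, if_neg fun h => hPw k _ h hwx, if_pos rfl]
        rcases hσ k with a | a <;> rcases hε k with b | b <;> simp [a, b]
      · intro m _ hm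
        rw [huf m _ hx, if_neg fun h => hPw m _ h hwx, if_neg fun h => hm (hinj h).symm]
        simp
      · exact fun h => absurd (Finset.mem_univ _) h

/-- The two cubic sums over the degrees in the exceptional shape. -/
theorem exotic_sums [DecidableEq X] {S : Finset X} {w : X → ℤ} {u : J → X → ℤ} (hE : Exotic S w u)
    {i j k : J} (hij : i ≠ j) (hik : i ≠ k) (hjk : j ≠ k) {deg : X → ℂ} (hdeg : ∀ x ∈ S, deg x ≠ 0)
    (hu0 : ∀ l, ∑ x ∈ S, (u l x : ℂ) * deg x = 0) (hw0 : ∑ x ∈ S, (w x : ℂ) * deg x = 0)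
    {r : ℂ} (hr : r * r = 2) :
    ∃ b ∈ S, w b ≠ 0 ∧ ∃ s : ℤ, (s = 1 ∨ s = -1) ∧
      ∑ x ∈ S, ((w x : ℂ) - r * u i x + r * u k x) ^ 3 / deg x = (s : ℂ) * 44 / (3 * deg b) ∧
      ∑ x ∈ S, ((w x : ℂ) - r * u i x + r * u k x) ^ 2 * ((w x : ℂ) + r * u i x - r * u k x) / deg x =
        (s : ℂ) * (-4) / (3 * deg b) := by
  obtain ⟨hw1, hW, P, f, ε, hfS, hfw, hP, hint, huf⟩ := hE
  set W := S.filter fun x => w x ≠ 0 with hWdef
  have hPW : ∀ l, P l ⊆ W := fun l x hx => Finset.mem_filter.mpr ⟨(hP l).1 hx, (hP l).2.2 x hx⟩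
  obtain ⟨a, ha⟩ := Finset.card_eq_one.mp (hint i k hik)
  have ha' : a ∈ P i ∩ P k := ha ▸ Finset.mem_singleton_self a
  obtain ⟨hai, hak⟩ := Finset.mem_inter.mp ha'
  obtain ⟨b, hb⟩ : ∃ b, (P i).erase a = {b} :=
    Finset.card_eq_one.mp (by rw [Finset.card_erase_of_mem hai, (hP i).2.1])
  obtain ⟨e, he⟩ : ∃ e, (P k).erase a = {e} :=
    Finset.card_eq_one.mp (by rw [Finset.card_erase_of_mem hak, (hP k).2.1])
  have hPi : P i = {a, b} := by rw [← Finset.insert_erase hai, hb]
  have hPk : P k = {a, e} := by rw [← Finset.insert_erase hak, he]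
  have hba : b ≠ a := Finset.ne_of_mem_erase (hb ▸ Finset.mem_singleton_self b)
  have hea : e ≠ a := Finset.ne_of_mem_erase (he ▸ Finset.mem_singleton_self e)
  have hbe : b ≠ e := by
    intro h
    have h1 : b ∈ P i ∩ P k := Finset.mem_inter.mpr ⟨by simp [hPi], by simp [hPk, h]⟩
    rw [ha, Finset.mem_singleton] at h1
    exact hba h1
  have hbW : b ∈ W := hPW i (by simp [hPi])
  have heW : e ∈ W := hPW k (by simp [hPk])
  have haW : a ∈ W := hPW i hai
  obtain ⟨c, hc⟩ : ∃ c, W \ {a, b, e} = {c} := Finset.card_eq_one.mp (by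
    rw [Finset.card_sdiff_of_subset (by simp [Finset.insert_subset_iff, haW, hbW, heW]), hW,
      Finset.card_eq_three.mpr ⟨a, b, e, hba.symm, hea.symm, hbe, rfl⟩])
  have hcm : c ∈ W \ {a, b, e} := hc ▸ Finset.mem_singleton_self c
  simp only [Finset.mem_sdiff, Finset.mem_insert, Finset.mem_singleton, not_or] at hcm
  obtain ⟨hcW, (hca : c ≠ a), (hcb : c ≠ b), (hce : c ≠ e)⟩ := hcm
  have hWeq : W = {a, b, c, e} := by
    refine (Finset.eq_of_subset_of_card_le (by simp [Finset.insert_subset_iff, haW, hbW, hcW, heW]) ?_).symm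
    rw [hW, Finset.card_eq_four.mpr ⟨a, b, c, e, hba.symm, hca.symm, hea.symm, hcb.symm, hbe, hce, rfl⟩]
  have hfW : f ∉ W := fun h => (Finset.mem_filter.mp h).2 hfw
  -- sums over the places
  have hsum : ∀ (F : X → ℂ), (∀ x ∈ S, x ∉ W → x ≠ f → F x = 0) →
      ∑ x ∈ S, F x = F a + F b + F c + F e + F f := by
    intro F hF
    rw [← Finset.sum_subset (s₁ := insert f W) (Finset.insert_subset hfS (Finset.filter_subset _ _))
      (fun x hx hn => hF x hx (fun h => hn (Finset.mem_insert_of_mem h))
        fun h => hn (h ▸ Finset.mem_insert_self f W)), Finset.sum_insert hfW, hWeq,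
      Finset.sum_insert (by simp [hba.symm, hca.symm, hea.symm]), Finset.sum_insert (by simp [hcb.symm, hbe]),
      Finset.sum_insert (by simp [hce]), Finset.sum_singleton]
    ring
  have hS : ∀ x ∈ W, x ∈ S := fun x hx => (Finset.mem_filter.mp hx).1
  have hout : ∀ l, ∀ x ∈ S, x ∉ W → x ≠ f → u l x = 0 := fun l x hx hn hne => by
    rw [huf l x hx, if_neg (fun h => hn (hPW l h)), if_neg hne, add_zero]
  have hwout : ∀ x ∈ S, x ∉ W → w x = 0 := fun x hx hn => by
    by_contra h; exact hn (Finset.mem_filter.mpr ⟨hx, h⟩)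
  have hnf : ∀ x ∈ W, x ≠ f := fun x hx h => hfW (h ▸ hx)
  have vW : ∀ l, ∀ x ∈ W, u l x = if x ∈ P l then w x else 0 := fun l x hx => by
    rw [huf l x (hS x hx), if_neg (hnf x hx), add_zero]
  have vf : ∀ l, u l f = ε := fun l => by
    rw [huf l f hfS, if_neg (fun h => hfW (hPW l h)), if_pos rfl, zero_add]
  have mi : a ∈ P i ∧ b ∈ P i ∧ c ∉ P i ∧ e ∉ P i := by
    simp [hPi, hca, hcb, hea, hbe.symm]
  have mk' : a ∈ P k ∧ b ∉ P k ∧ c ∉ P k ∧ e ∈ P k := by
    simp [hPk, hca, hce, hba, hbe]
  have ui : u i a = w a ∧ u i b = w b ∧ u i c = 0 ∧ u i e = 0 := by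
    simp [vW i a haW, vW i b hbW, vW i c hcW, vW i e heW, mi]
  have uk : u k a = w a ∧ u k b = 0 ∧ u k c = 0 ∧ u k e = w e := by
    simp [vW k a haW, vW k b hbW, vW k c hcW, vW k e heW, mk']
  set A : ℂ := (w a : ℂ) * deg a
  set T : ℂ := (w b : ℂ) * deg b
  set C : ℂ := (w c : ℂ) * deg c
  set E : ℂ := (w e : ℂ) * deg e
  set Z : ℂ := (ε : ℂ) * deg f
  have r0 : A + T + C + E = 0 := by
    rw [hsum _ fun x hx hn _ => by rw [hwout x hx hn]; simp, hfw] at hw0
    simpa using hw0
  have r1 : A + T + Z = 0 := by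
    have h := hu0 i
    rw [hsum _ fun x hx hn hne => by rw [hout i x hx hn hne]; simp, ui.1, ui.2.1, ui.2.2.1, ui.2.2.2, vf] at h
    simpa using h
  have r2 : A + E + Z = 0 := by
    have h := hu0 k
    rw [hsum _ fun x hx hn hne => by rw [hout k x hx hn hne]; simp, uk.1, uk.2.1, uk.2.2.1, uk.2.2.2, vf] at h
    simpa using h
  have hET : E = T := by linear_combination r2 - r1
  have r3 : (C = T ∧ A = -3 * T) ∨ (A = T ∧ C = -3 * T) := by
    have hj := hP j
    have hji := hint j i hij.symm
    have hjk' := hint j k hjk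
    have hPj : P j = {a, c} ∨ P j = {b, e} := by
      by_cases haj : a ∈ P j
      · left
        have hbj : b ∉ P j := fun h => by
          have : ({a, b} : Finset X) ⊆ P j ∩ P i := by
            simp [Finset.insert_subset_iff, haj, h, mi.1, mi.2.1]
          have := Finset.card_le_card this
          rw [Finset.card_pair hba.symm] at this
          omega
        have hej : e ∉ P j := fun h => by
          have : ({a, e} : Finset X) ⊆ P j ∩ P k := by
            simp [Finset.insert_subset_iff, haj, h, mk'.1, mk'.2.2.2]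
          have := Finset.card_le_card this
          rw [Finset.card_pair hea.symm] at this
          omega
        refine Finset.eq_of_subset_of_card_le (fun x hx => ?_) (by rw [hj.2.1, Finset.card_pair hca.symm])
        have hx' := hPW j hx
        rw [hWeq] at hx'
        simp only [Finset.mem_insert, Finset.mem_singleton] at hx' ⊢
        rcases hx' with h | h | h | h
        · exact Or.inl h
        · exact absurd (h ▸ hx) hbj
        · exact Or.inr h
        · exact absurd (h ▸ hx) hej
      · right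
        have key : ∀ l y, P l = {a, y} → (P j ∩ P l).card = 1 → y ∈ P j := fun l y hl h => by
          by_contra hy
          rw [Finset.card_eq_one] at h
          obtain ⟨z, hz⟩ := h
          have : z ∈ P j ∩ P l := hz ▸ Finset.mem_singleton_self z
          rw [hl] at this
          simp only [Finset.mem_inter, Finset.mem_insert, Finset.mem_singleton] at this
          rcases this.2 with h | h
          · exact haj (h ▸ this.1)
          · exact hy (h ▸ this.1)
        refine (Finset.eq_of_subset_of_card_le ?_ (by rw [hj.2.1, Finset.card_pair hbe])).symm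
        simp [Finset.insert_subset_iff, key i b hPi hji, key k e hPk hjk']
    have h := hu0 j
    rw [hsum _ fun x hx hn hne => by rw [hout j x hx hn hne]; simp, vW j a haW, vW j b hbW, vW j c hcW,
      vW j e heW, vf] at h
    rcases hPj with hPj | hPj
    · left
      simp [hPj, hba, hea, hca, hcb.symm, hce.symm] at h
      exact ⟨by linear_combination h - r1, by linear_combination r0 - h + r1 - hET⟩
    · right
      simp [hPj, hba.symm, hea.symm, hcb, hce, hbe] at h
      exact ⟨by linear_combination r1 - h + hET, by linear_combination r0 - r1 + h - 2 * hET⟩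
  have hw2 : ∀ x ∈ W, (w x : ℂ) * (w x : ℂ) = 1 := fun x hx => by
    obtain ⟨hxS, hx0⟩ := Finset.mem_filter.mp hx
    rcases hw1 x hxS with h | h | h <;> simp [h] at hx0 ⊢
  have hinv : ∀ x ∈ W, (w x : ℂ) / deg x = 1 / ((w x : ℂ) * deg x) := fun x hx => by
    have h2 := hw2 x hx
    have : (w x : ℂ) ≠ 0 := left_ne_zero_of_mul (h2.trans_ne one_ne_zero)
    have := hdeg x (hS x hx)
    field_simp
    linear_combination h2
  have hT0 : T ≠ 0 := mul_ne_zero (left_ne_zero_of_mul ((hw2 b hbW).trans_ne one_ne_zero)) (hdeg b (hS b hbW))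
  have hd0 : deg b ≠ 0 := hdeg b (hS b hbW)
  refine ⟨b, hS b hbW, (Finset.mem_filter.mp hbW).2, w b, ?_, ?_⟩
  · rcases hw1 b (hS b hbW) with h | h | h
    · exact Or.inr h
    · exact absurd h (Finset.mem_filter.mp hbW).2
    · exact Or.inl h
  have hfz : ∀ (p q : ℂ), ((w f : ℂ) - p * u i f + p * u k f) * q = 0 := fun p q => by
    rw [hfw, vf i, vf k]; simp
  have hrhs : ∀ n : ℂ, (w b : ℂ) * n / (3 * deg b) = n / 3 * (1 / T) := fun n => by
    rw [← hinv b hbW]; field_simp
  have h13 : 1 / A + 1 / C = 2 / 3 * (1 / T) := by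
    rcases r3 with ⟨hC, hA⟩ | ⟨hA, hC⟩ <;> rw [hA, hC] <;> field_simp <;> ring
  have hcube : ∀ x ∈ W, (w x : ℂ) ^ 3 / deg x = 1 / ((w x : ℂ) * deg x) := fun x hx => by
    rw [← hinv x hx, show (w x : ℂ) ^ 3 = (w x : ℂ) * ((w x : ℂ) * w x) by ring, hw2 x hx, mul_one]
  have ea : (w a : ℂ) ^ 3 / deg a = 1 / A := hcube a haW
  have eb : (w b : ℂ) ^ 3 / deg b = 1 / T := hcube b hbW
  have ec : (w c : ℂ) ^ 3 / deg c = 1 / C := hcube c hcW
  have ee : (w e : ℂ) ^ 3 / deg e = 1 / T := (hcube e heW).trans (by rw [show (w e : ℂ) * deg e = T from hET])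
  constructor
  · rw [hsum _ fun x hx hn hne => by rw [hout i x hx hn hne, hout k x hx hn hne, hwout x hx hn]; simp, ui.1,
      ui.2.1, ui.2.2.1, ui.2.2.2, uk.1, uk.2.1, uk.2.2.1, uk.2.2.2, hrhs]
    rw [show ((w f : ℂ) - r * u i f + r * u k f) ^ 3 / deg f = 0 by
      rw [hfw, vf i, vf k]; simp]
    push_cast
    linear_combination ea + (1 - r) ^ 3 * eb + ec + (1 + r) ^ 3 * ee + h13 + (6 * (1 / T)) * hr
  · rw [hsum _ fun x hx hn hne => by rw [hout i x hx hn hne, hout k x hx hn hne, hwout x hx hn]; simp, ui.1,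
      ui.2.1, ui.2.2.1, ui.2.2.2, uk.1, uk.2.1, uk.2.2.1, uk.2.2.2, hrhs]
    rw [show ((w f : ℂ) - r * u i f + r * u k f) ^ 2 * ((w f : ℂ) + r * u i f - r * u k f) / deg f = 0 by
      rw [hfw, vf i, vf k]; simp]
    push_cast
    linear_combination ea + (1 - r) ^ 2 * (1 + r) * eb + ec + (1 + r) ^ 2 * (1 - r) * ee + h13 - (2 * (1 / T)) * hr

end Cfsg.Agent.Char.DihBlock
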