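import Cfsg.Agent.Lib.Char.Convolution
import Cfsg.Agent.Lib.Char.BlockBasic
import Cfsg.Agent.Lib.Char.SectionPart

/-!
# Convolution of class functions through their coefficients
-/

set_option autoImplicit false
set_option linter.unusedSectionVars false

namespace Cfsg.Agent.Char.DihBlock

open Cfsg
open scoped ComplexConjugate

universe u

variable {G : Type u} [Group G] [Fintype G]

/-- The convolution. -/
noncomputable def cv (a b : G → ℂ) (g : G) : ℂ := ∑ x : G, a x * b (x⁻¹ * g)

theorem cv_isClass {a b : G → ℂ} (ha : IsClassFunction G a) (hb : IsClassFunction G b) :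
    IsClassFunction G (cv a b) := by
  intro g t
  refine (Fintype.sum_equiv (MulAut.conj t).toEquiv _ _ fun x => ?_).symm
  show a x * b (x⁻¹ * g) = a (t * x * t⁻¹) * b ((t * x * t⁻¹)⁻¹ * (t * g * t⁻¹))
  rw [ha, show (t * x * t⁻¹)⁻¹ * (t * g * t⁻¹) = t * (x⁻¹ * g) * t⁻¹ by group, hb]

theorem cv_expand {a b : G → ℂ} (ha : IsClassFunction G a) (hb : IsClassFunction G b) :
    cv a b = ∑ χ : IrrCharacter G, (classInner a (χ : G → ℂ) * classInner b (χ : G → ℂ) *
      (Nat.card G : ℂ) / (χ : G → ℂ) 1) • (χ : G → ℂ) := by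
  classical
  funext g
  rw [cv]
  conv_lhs =>
    enter [2, x]
    rw [classFun_expansion ha, classFun_expansion hb]
  simp only [Finset.sum_apply, Pi.smul_apply, smul_eq_mul, Finset.sum_mul_sum]
  rw [Finset.sum_comm]
  refine Finset.sum_congr rfl fun χ _ => ?_
  rw [Finset.sum_comm]
  have h : ∀ ψ : IrrCharacter G, ∑ x : G, (χ : G → ℂ) x * (ψ : G → ℂ) (x⁻¹ * g) =
      if χ = ψ then (Nat.card G : ℂ) * (ψ : G → ℂ) g / (ψ : G → ℂ) 1 else 0 := fun ψ => by
    have h1 := irr_convolution χ.2 ψ.2 g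
    have h2 : ((χ : G → ℂ) = (ψ : G → ℂ)) ↔ χ = ψ := Subtype.ext_iff.symm
    by_cases he : χ = ψ
    · rw [if_pos he, eq_div_iff (irr_one_ne_zero ψ.2), mul_comm, h1, if_pos (h2.mpr he)]
    · rw [if_neg fun e => he (h2.mp e)] at h1
      rw [if_neg he]
      exact (mul_eq_zero.mp h1).resolve_left (irr_one_ne_zero ψ.2)
  rw [Finset.sum_congr rfl (g := fun ψ : IrrCharacter G => classInner a (χ : G → ℂ) * classInner b (ψ : G → ℂ) *
      ∑ x : G, (χ : G → ℂ) x * (ψ : G → ℂ) (x⁻¹ * g)) fun ψ _ => by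
    rw [Finset.mul_sum]; exact Finset.sum_congr rfl fun x _ => by ring]
  simp only [h, mul_ite, mul_zero, Finset.sum_ite_eq, Finset.mem_univ, if_true]
  ring

theorem cv_inner {a b : G → ℂ} (ha : IsClassFunction G a) (hb : IsClassFunction G b) (χ : IrrCharacter G) :
    classInner (cv a b) (χ : G → ℂ) =
      classInner a (χ : G → ℂ) * classInner b (χ : G → ℂ) * (Nat.card G : ℂ) / (χ : G → ℂ) 1 := by
  classical
  rw [cv_expand ha hb, classInner_sum_left, Finset.sum_eq_single χ]
  · rw [classInner_smul_left, irr_orth χ.2 χ.2, if_pos rfl, mul_one]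
  · intro θ _ hne
    rw [classInner_smul_left, irr_orth θ.2 χ.2, if_neg fun e => hne (Subtype.ext e), mul_zero]
  · exact fun h => absurd (Finset.mem_univ _) h

/-- A block part keeps local congruences. -/
theorem blockPart_congr {p : ℕ} {M : Ideal AlgInt} (hM : IsPModular p M) {B : Set (IrrCharacter G)}
    (hB : IsPBlock M B) {a b : G → ℂ} (ha : IsClassFunction G a) (hb : IsClassFunction G b)
    (h : ∀ g, MemLocalIdeal M (a g - b g)) (g : G) :
    MemLocalIdeal M (blockPart B a g - blockPart B b g) := by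
  have hP := pmod_prime hM
  rw [← sum_blockCoeff_shift B ha g, ← sum_blockCoeff_shift B hb g, ← Finset.sum_sub_distrib]
  refine memLI_sum hP _ _ fun k _ => ?_
  rw [← mul_sub]
  exact memLI_mul_left hP (memLR_blockCoeff hM hB k) (h _)

/-- A sum over the points moved by an involution, with equal values on the pairs, lies in the local ideal. -/
theorem memLI_sum_pairs {M : Ideal AlgInt} (hM : IsPModular 2 M) (s : Finset G) (σ : G → G) (F : G → ℂ)
    (hs : ∀ x ∈ s, σ x ∈ s) (hne : ∀ x ∈ s, σ x ≠ x) (hinv : ∀ x ∈ s, σ (σ x) = x)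
    (hF : ∀ x ∈ s, F (σ x) = F x) (hR : ∀ x ∈ s, MemLocalRing M (F x)) : MemLocalIdeal M (∑ x ∈ s, F x) := by
  classical
  have hP := pmod_prime hM
  set e := Fintype.equivFin G
  rw [← Finset.sum_filter_add_sum_filter_not s (fun x => e x < e (σ x))]
  have h : ∑ x ∈ s.filter (fun x => ¬ e x < e (σ x)), F x = ∑ x ∈ s.filter (fun x => e x < e (σ x)), F x := by
    refine Finset.sum_bij (fun x _ => σ x) (fun x hx => ?_) (fun x hx y hy hxy => ?_) (fun y hy => ?_)
      (fun x hx => (hF x (Finset.mem_filter.mp hx).1).symm)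
    · obtain ⟨h1, h2⟩ := Finset.mem_filter.mp hx
      refine Finset.mem_filter.mpr ⟨hs x h1, ?_⟩
      rw [hinv x h1]
      exact lt_of_le_of_ne (not_lt.mp h2) fun h => hne x h1 (e.injective h)
    · rw [← hinv x (Finset.mem_filter.mp hx).1, hxy, hinv y (Finset.mem_filter.mp hy).1]
    · obtain ⟨h1, h2⟩ := Finset.mem_filter.mp hy
      refine ⟨σ y, Finset.mem_filter.mpr ⟨hs y h1, ?_⟩, hinv y h1⟩
      rw [hinv y h1]
      exact h2.not_gt
  rw [h, ← two_mul]
  exact memLI_mul_right hP (by exact_mod_cast memLI_p hM)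
    (memLR_sum hP _ _ fun x hx => hR x (Finset.mem_filter.mp hx).1)

end Cfsg.Agent.Char.DihBlock
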