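import Cfsg.Agent.Lib.Char.DihedralBlock.Column
import Cfsg.Agent.Lib.Char.DihedralBlock.Convolve
import Cfsg.Agent.Lib.Char.DihedralBlock.Combin

/-!
# The exceptional columns do not occur

For a defect group of order sixteen the exceptional shape would make a unit of the local block congruent to zero:
the square of the induced indicator of a rotation of order eight is compared on the section of that rotation.
-/

set_option autoImplicit false
set_option linter.unusedSectionVars false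
set_option linter.style.haveILetI false

namespace Cfsg.Agent.Char.DihBlock

open Cfsg DihedralGroup
open scoped ComplexConjugate

universe u

theorem zmod_eight (i : ZMod 8) (h : 4 * i ≠ 0) : i = 1 ∨ i = 3 ∨ i = -1 ∨ i = -3 := by
  revert i
  decide

theorem order_eight {y : DihedralGroup 8} (h : orderOf y = 8) :
    y = r 1 ∨ y = r 3 ∨ y = r (-1) ∨ y = r (-3) := by
  rcases y with i | i
  · have h4 : (r i : DihedralGroup 8) ^ 4 ≠ 1 := fun h4 => by
      have := Nat.le_of_dvd (by norm_num) (orderOf_dvd_of_pow_eq_one h4)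
      omega
    rw [r_pow, DihedralGroup.one_def, Ne, r.injEq, mul_comm] at h4
    rcases zmod_eight i (by exact_mod_cast h4) with e | e | e | e <;> simp [e]
  · rw [orderOf_sr] at h
    omega

theorem ind_order_eight {k : ZMod 8} (y : DihedralGroup 8) (hk : k = 1 ∨ k = 3) (hy : ind k y ≠ 0) :
    orderOf y = 8 := by
  rcases y with i | i
  · have hi : i = k ∨ i = -k := by
      by_contra hc
      push Not at hc
      exact hy (by simp [ind, hc.1, hc.2])
    rw [orderOf_r]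
    rcases hk with rfl | rfl <;> rcases hi with rfl | rfl <;> decide
  · exact absurd rfl hy

variable {G : Type u} [Group G] [Fintype G]
variable {M : Ideal AlgInt} {B : Set (IrrCharacter G)} {z : G}
  [Fintype (Subgroup.centralizer ({z} : Set G))]

namespace DBlock

variable {N : ℕ} [NeZero N] (S : DBlock M B N z)

theorem good_of_rot {c w : Subgroup.centralizer ({z} : Set G)} {i : ZMod N} (hi : i ≠ 0)
    (hy : w * ppt 2 c * w⁻¹ = S.d (r i)) : Good z (c : G) := by
  obtain ⟨a, ha⟩ := S.hN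
  obtain ⟨k, hk⟩ := rot_pow_half ha S.two_dvd hi
  refine ⟨k, ?_⟩
  have h1 : (w * ppt 2 c * w⁻¹) ^ 2 ^ k = S.zC := by
    rw [hy, ← S.d_half, ← hk]
    simp only [d, map_pow, SubgroupClass.coe_pow]
  rw [conj_pow] at h1
  have h2 : (ppt 2 c) ^ 2 ^ k = S.zC := by
    calc (ppt 2 c) ^ 2 ^ k = w⁻¹ * (w * ppt 2 c ^ 2 ^ k * w⁻¹) * w := by group
      _ = S.zC := by rw [h1, mul_assoc, S.zC_comm w, ← mul_assoc, inv_mul_cancel, one_mul]
  rw [ppt_coe Nat.prime_two, ← SubgroupClass.coe_pow, h2]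
  rfl

theorem inner_cls_eq [Fintype S.P] (μ ν : DihedralGroup N → ℂ) :
    classInner μ ν = classInner (S.cls μ) (S.cls ν) := by
  rw [classInner, classInner, Nat.card_congr S.ι.toEquiv]
  congr 1
  exact Fintype.sum_equiv S.ι.toEquiv _ _ fun y => by simp [cls]

open scoped Classical in
/-- The convolution on the centralizer comes from the one on the defect group. -/
theorem cv_th [Fintype S.P] {μ ν : DihedralGroup N → ℂ} (hμ : IsClassFunction _ μ) (hν : IsClassFunction _ ν) :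
    cv (S.th μ) (S.th ν) = ((Nat.card (Subgroup.centralizer ({z} : Set G)) : ℂ) /
      ((Nat.card S.P : ℂ) * (S.ψ : Subgroup.centralizer ({z} : Set G) → ℂ) 1)) •
      S.th (S.back (cv (S.cls μ) (S.cls ν))) := by
  have hρ := S.back_isClass (cv_isClass (S.cls_isClass hμ) (S.cls_isClass hν))
  refine classFun_ext (cv_isClass (S.th_isClass hμ) (S.th_isClass hν))
    (fun g t => by simp only [Pi.smul_apply, S.th_isClass hρ g t]) fun η => ?_
  rw [cv_inner (S.th_isClass hμ) (S.th_isClass hν), classInner_smul_left]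
  by_cases hη : η ∈ S.f
  · obtain ⟨lam, hlam⟩ := Star.exists_preimage S.hM S.hmax S.hnil S.hψ S.hψ0 hη
    have e : S.th (S.back lam) = (η : Subgroup.centralizer ({z} : Set G) → ℂ) := by
      rw [← hlam, th, S.cls_back]
    have hl := S.back_isClass (isClassFunction_character (irr_isCharacter lam.2))
    have h1 : (η : Subgroup.centralizer ({z} : Set G) → ℂ) 1 =
        (lam : S.P → ℂ) 1 * (S.ψ : Subgroup.centralizer ({z} : Set G) → ℂ) 1 := by
      rw [← e, S.th_regular hl (by rw [orderOf_one]; exact Nat.prime_two.not_dvd_one), back, map_one]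
    rw [← e, S.th_inner hμ hl, S.th_inner hν hl, S.th_inner hρ hl, S.inner_cls_eq, S.inner_cls_eq,
      S.inner_cls_eq, S.cls_back, S.cls_back, e, h1, cv_inner (S.cls_isClass hμ) (S.cls_isClass hν)]
    have := irr_one_ne_zero lam.2
    have := irr_one_ne_zero S.ψ.2
    have : (Nat.card S.P : ℂ) ≠ 0 := Nat.cast_ne_zero.mpr Nat.card_pos.ne'
    field_simp
  · rw [S.th_inner_other hμ hη, S.th_inner_other hρ hη]
    simp

theorem L_memLR {μ : DihedralGroup N → ℂ} (hμ : IsClassFunction _ μ) (ho : OnRot μ)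
    (hR : ∀ y, MemLocalRing M (μ y)) (g : G) : MemLocalRing M (S.L μ g) := by
  by_cases h : ∀ t : G, ¬ Good z (t⁻¹ * g * t)
  · rw [S.L_eq_zero hμ ho h]
    exact memLR_zero (pmod_prime S.hM)
  · push Not at h
    obtain ⟨t, ht⟩ := h
    rw [show S.L μ g = S.L μ (t⁻¹ * g * t⁻¹⁻¹) from ((isClassFunction_indFun _ _) g t⁻¹).symm, inv_inv,
      show S.L μ (t⁻¹ * g * t) = _ from S.L_eq hμ ho (c := ⟨_, ht.mem⟩) ht]
    exact S.th_memLR hR _

open scoped Classical in
/-- The square of an induced function, seen in the local block. -/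
theorem blockPart_square {κ : DihedralGroup N → ℂ} (hκ : IsClassFunction _ κ) (ho : OnRot κ)
    (hR : ∀ y, MemLocalRing M (κ y))
    (hord : ∀ y y', κ y ≠ 0 → orderOf y' = orderOf y → ∃ i ≠ (0 : ZMod N), y' = r i)
    (g : Subgroup.centralizer ({z} : Set G)) :
    MemLocalIdeal M (blockPart S.f (fun c => cv (S.L κ) (S.L κ) (c : G)) g - cv (S.th κ) (S.th κ) g) := by
  have hP := pmod_prime S.hM
  set R : Subgroup.centralizer ({z} : Set G) → ℂ := fun c => S.L κ (c : G) with hRd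
  have hF : IsClassFunction G (S.L κ) := isClassFunction_indFun _ _
  have hRc : IsClassFunction _ R := isClassFunction_restrict hF
  -- the restriction agrees with the carried function on the block
  have hin : ∀ η : IrrCharacter (Subgroup.centralizer ({z} : Set G)), η ∈ S.f →
      classInner R (η : Subgroup.centralizer ({z} : Set G) → ℂ) = classInner (S.th κ) (η : _ → ℂ) := by
    intro η hη
    rw [classInner, classInner]
    congr 1
    refine Finset.sum_congr rfl fun c _ => ?_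
    by_cases hg : Good z (c : G)
    · rw [hRd]
      simp only [S.L_eq hκ ho hg]
    have h0 : S.th κ c = 0 := by
      by_contra h
      exact hg (S.good_of_ne hκ ho h)
    rw [h0, zero_mul]
    by_contra hne
    obtain ⟨hne1, hne2⟩ := mul_ne_zero_iff.mp hne
    obtain ⟨t, ht⟩ : ∃ t : G, Good z (t⁻¹ * (c : G) * t) := by
      by_contra h
      push Not at h
      exact hne1 (S.L_eq_zero hκ ho h)
    set c' : Subgroup.centralizer ({z} : Set G) := ⟨_, ht.mem⟩ with hc'
    have h1 : S.th κ c' ≠ 0 := by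
      have e : (c' : G) = t⁻¹ * (c : G) * t⁻¹⁻¹ := by rw [hc', inv_inv]
      rw [← S.L_eq hκ ho (c := c') ht, e, hF]
      exact hne1
    obtain ⟨w, y, hy, hy0⟩ : ∃ w y, w * ppt 2 c' * w⁻¹ = S.d y ∧ κ y ≠ 0 := by
      by_contra h
      push Not at h
      exact h1 (S.th_eq_zero hκ h)
    obtain ⟨E, hE, hcE⟩ := mem_defect_of_ne_zero S.hM S.hf hη (isPPart_ppt Nat.prime_two c)
      (fun h => hne2 (by rw [h, map_zero]))
    obtain ⟨t', rfl⟩ := defect_groups_conj S.hM S.hf S.hP hE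
    obtain ⟨q, hq, hq'⟩ := hcE
    obtain ⟨y', hy'⟩ := S.exists_d hq
    have hq'' : t' * q * t'⁻¹ = ppt 2 c := hq'
    have hoy : orderOf y' = orderOf y := by
      rw [← S.orderOf_d y', ← S.orderOf_d y, hy', ← hy,
        show w * ppt 2 c' * w⁻¹ = MulAut.conj w (ppt 2 c') from rfl, MulEquiv.orderOf_eq,
        show q = MulAut.conj t'⁻¹ (ppt 2 c) by simp [← hq'', mul_assoc], MulEquiv.orderOf_eq, ← Subgroup.orderOf_coe,
        ← Subgroup.orderOf_coe, ← ppt_coe Nat.prime_two, ← ppt_coe Nat.prime_two, hc']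
      show orderOf (ppt 2 (c : G)) = orderOf (ppt 2 (t⁻¹ * (c : G) * t))
      rw [show t⁻¹ * (c : G) * t = t⁻¹ * (c : G) * t⁻¹⁻¹ by rw [inv_inv], ppt_conj Nat.prime_two,
        show t⁻¹ * ppt 2 (c : G) * t⁻¹⁻¹ = MulAut.conj t⁻¹ (ppt 2 (c : G)) from rfl, MulEquiv.orderOf_eq]
    obtain ⟨i, hi, rfl⟩ := hord y y' hy0 hoy
    refine hg (S.good_of_rot (w := t'⁻¹) hi ?_)
    rw [hy', ← hq'']
    group
  have hbp : blockPart S.f (cv R R) = cv (S.th κ) (S.th κ) := by
    funext x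
    rw [blockPart_eq, cv_expand (S.th_isClass hκ) (S.th_isClass hκ), Finset.sum_apply, Finset.sum_filter]
    refine Finset.sum_congr rfl fun η _ => ?_
    rw [Pi.smul_apply, smul_eq_mul]
    split_ifs with hη
    · rw [cv_inner hRc hRc, hin η hη]
    · rw [S.th_inner_other hκ hη]
      simp
  rw [← hbp]
  refine blockPart_congr S.hM S.hf (isClassFunction_restrict (cv_isClass hF hF)) (cv_isClass hRc hRc) (fun c => ?_) g
  -- the terms off the centralizer pair up
  have hsplit : cv (S.L κ) (S.L κ) (c : G) = cv R R c +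
      ∑ x : G with x ∉ Subgroup.centralizer ({z} : Set G), S.L κ x * S.L κ (x⁻¹ * (c : G)) := by
    rw [cv, cv, ← Finset.sum_filter_add_sum_filter_not Finset.univ
      (fun x : G => x ∈ Subgroup.centralizer ({z} : Set G))]
    congr 1
    refine (Finset.sum_bij (fun x _ => ((x : Subgroup.centralizer ({z} : Set G)) : G))
      (fun x _ => Finset.mem_filter.mpr ⟨Finset.mem_univ _, x.2⟩) (fun a _ b _ h => Subtype.ext h)
      (fun x hx => ⟨⟨x, (Finset.mem_filter.mp hx).2⟩, Finset.mem_univ _, rfl⟩) fun x _ => ?_).symm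
    rfl
  rw [hsplit, add_sub_cancel_left]
  have hzz : z * z = 1 := by rw [← pow_two, ← S.orderOf_z, pow_orderOf_eq_one]
  have hzi : z⁻¹ = z := inv_eq_of_mul_eq_one_left hzz
  refine memLI_sum_pairs S.hM _ (fun x => z * x * z⁻¹) _ (fun x hx => ?_) (fun x hx h => ?_) (fun x _ => ?_)
    (fun x _ => ?_) fun x _ => memLR_mul hP (S.L_memLR hκ ho hR _) (S.L_memLR hκ ho hR _)
  · refine Finset.mem_filter.mpr ⟨Finset.mem_univ _, fun h => (Finset.mem_filter.mp hx).2 ?_⟩
    have hzm : z ∈ Subgroup.centralizer ({z} : Set G) := Subgroup.mem_centralizer_singleton_iff.mpr rfl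
    simpa [mul_assoc] using mul_mem (mul_mem (inv_mem hzm) h) hzm
  · refine (Finset.mem_filter.mp hx).2 (Subgroup.mem_centralizer_singleton_iff.mpr ?_)
    exact (mul_inv_eq_iff_eq_mul.mp h).symm
  · rw [hzi]
    calc z * (z * x * z) * z = z * z * x * (z * z) := by group
      _ = x := by rw [hzz, one_mul, mul_one]
  · show S.L κ (z * x * z⁻¹) * S.L κ ((z * x * z⁻¹)⁻¹ * (c : G)) = _
    rw [hF, show (z * x * z⁻¹)⁻¹ * (c : G) = z * (x⁻¹ * (c : G)) * z⁻¹ by
      rw [show z * (x⁻¹ * (c : G)) * z⁻¹ = z * x⁻¹ * ((c : G) * z⁻¹) by group,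
        show (c : G) * z⁻¹ = z⁻¹ * (c : G) from (Commute.inv_right (cent_mul_comm c).symm).eq]
      group, hF]

theorem v_indicator {ζ : ℂ} (hζ : IsPrimitiveRoot ζ N) {k : ZMod N} (hk : k ≠ 0) (χ : IrrCharacter G) :
    (N : ℂ) * S.v (ind k) χ = -∑ j, dihE hζ (k * j) * (S.cf hζ j χ : ℂ) := by
  rw [← v_smul, ind_eq_tau hζ hk, ← neg_one_smul ℂ (∑ j, _), v_smul, v_sum, neg_one_mul]
  simp only [S.cf_spec hζ]

end DBlock

theorem memLR_ind {N : ℕ} [NeZero N] (hM : IsPModular 2 M) (k : ZMod N) (y : DihedralGroup N) :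
    MemLocalRing M (ind k y) := by
  have hP := pmod_prime hM
  rcases y with i | i
  · simp only [ind]
    split_ifs <;> (try simp only [add_zero, zero_add]) <;>
      first | exact memLR_zero hP | exact memLR_one hP | exact memLR_add hP (memLR_one hP) (memLR_one hP)
  · exact memLR_zero hP

/-- The exceptional shape is impossible. -/
theorem not_exotic (S : DBlock M B 8 z) {ζ : ℂ} (hζ : IsPrimitiveRoot ζ 8) :
    ¬ Exotic (bset B) (S.cf hζ ((4 : ℕ) : ZMod 8)) (fun j : Fin 3 => S.cf hζ (jz 8 j)) := by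
  classical
  intro hE
  have hP := pmod_prime S.hM
  haveI := Fintype.ofFinite S.P
  set r2 : ℂ := ζ + ζ ^ 7 with hr2d
  have hz8 : ζ ^ 8 = 1 := hζ.pow_eq_one
  have hz4 : ζ ^ 4 = -1 := by
    have h := mul_self_eq_one_iff.mp (show ζ ^ 4 * ζ ^ 4 = 1 by rw [← pow_add]; exact hz8)
    exact h.resolve_left (hζ.pow_ne_one_of_pos_of_lt (by norm_num) (by norm_num))
  have hr : r2 * r2 = 2 := by
    rw [hr2d]; linear_combination (ζ ^ 10 - ζ ^ 6 + ζ ^ 2 + 2 * ζ ^ 4 - 2) * hz4
  have hEv : ∀ n : ℕ, dihE hζ ((n : ℕ) : ZMod 8) = ζ ^ n := fun n => dihE_natCast hζ n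
  have hk1 : ((1 : ℕ) : ZMod 8) ≠ 0 := by decide
  have hk3 : ((3 : ℕ) : ZMod 8) ≠ 0 := by decide
  have hc0 : ∀ χ, S.cf hζ 0 χ = 0 := fun χ => by
    have h : S.v (tau hζ (0 : ZMod 8)) χ = 0 := by
      rw [show tau hζ (0 : ZMod 8) = 0 from sub_self _, DBlock.v, ← S.thL_apply, map_zero, classInner_zero_left]
    rw [S.cf_spec hζ] at h
    exact_mod_cast h
  have hsum8 : ∀ (F : ZMod 8 → ℂ), ∑ j, F j = F 0 + F ((4 : ℕ) : ZMod 8) +
      ((F ((1 : ℕ) : ZMod 8) + F (-((1 : ℕ) : ZMod 8))) + (F ((2 : ℕ) : ZMod 8) + F (-((2 : ℕ) : ZMod 8))) +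
        (F ((3 : ℕ) : ZMod 8) + F (-((3 : ℕ) : ZMod 8)))) := fun F => by
    rw [sum_split (m := 4) rfl (by norm_num) F, Fin.sum_univ_three]
    rfl
  have hneg : ∀ (j : ZMod 8) χ, S.cf hζ (-j) χ = S.cf hζ j χ := fun j χ => by
    have h := S.cf_spec hζ (-j) χ
    rw [tau_neg, S.cf_spec hζ] at h
    exact_mod_cast h.symm
  set w := S.cf hζ ((4 : ℕ) : ZMod 8) with hwd
  set u := fun j : Fin 3 => S.cf hζ (jz 8 j) with hud
  set D1 : IrrCharacter G → ℂ := fun χ => (w χ : ℂ) - r2 * u 0 χ + r2 * u 2 χ with hD1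
  set D3 : IrrCharacter G → ℂ := fun χ => (w χ : ℂ) + r2 * u 0 χ - r2 * u 2 χ with hD3
  have h8 : ((8 : ℕ) : ℂ) = 8 := Nat.cast_ofNat
  have h1v : ∀ χ, (8 : ℂ) * S.v (ind ((1 : ℕ) : ZMod 8)) χ = D1 χ := by
    intro χ
    rw [← h8, S.v_indicator hζ hk1, hsum8]
    simp only [show ((1 : ℕ) : ZMod 8) * 0 = ((0 : ℕ) : ZMod 8) from rfl,
      show ((1 : ℕ) : ZMod 8) * ((4 : ℕ) : ZMod 8) = ((4 : ℕ) : ZMod 8) from rfl,
      show ((1 : ℕ) : ZMod 8) * ((1 : ℕ) : ZMod 8) = ((1 : ℕ) : ZMod 8) from rfl,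
      show ((1 : ℕ) : ZMod 8) * -((1 : ℕ) : ZMod 8) = ((7 : ℕ) : ZMod 8) from rfl,
      show ((1 : ℕ) : ZMod 8) * ((2 : ℕ) : ZMod 8) = ((2 : ℕ) : ZMod 8) from rfl,
      show ((1 : ℕ) : ZMod 8) * -((2 : ℕ) : ZMod 8) = ((6 : ℕ) : ZMod 8) from rfl,
      show ((1 : ℕ) : ZMod 8) * ((3 : ℕ) : ZMod 8) = ((3 : ℕ) : ZMod 8) from rfl,
      show ((1 : ℕ) : ZMod 8) * -((3 : ℕ) : ZMod 8) = ((5 : ℕ) : ZMod 8) from rfl, hEv, hneg]
    simp only [hD1, hwd, hud, hr2d, hc0, jz, Fin.val_zero, Fin.val_two, zero_add]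
    push_cast
    linear_combination -((S.cf hζ 4 χ : ℂ) + (ζ ^ 2) * (S.cf hζ 2 χ : ℂ) +
      (ζ + ζ ^ 3) * (S.cf hζ 3 χ : ℂ)) * hz4
  have h3v : ∀ χ, (8 : ℂ) * S.v (ind ((3 : ℕ) : ZMod 8)) χ = D3 χ := by
    intro χ
    rw [← h8, S.v_indicator hζ hk3, hsum8]
    simp only [show ((3 : ℕ) : ZMod 8) * 0 = ((0 : ℕ) : ZMod 8) from rfl,
      show ((3 : ℕ) : ZMod 8) * ((4 : ℕ) : ZMod 8) = ((4 : ℕ) : ZMod 8) from rfl,
      show ((3 : ℕ) : ZMod 8) * ((1 : ℕ) : ZMod 8) = ((3 : ℕ) : ZMod 8) from rfl,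
      show ((3 : ℕ) : ZMod 8) * -((1 : ℕ) : ZMod 8) = ((5 : ℕ) : ZMod 8) from rfl,
      show ((3 : ℕ) : ZMod 8) * ((2 : ℕ) : ZMod 8) = ((6 : ℕ) : ZMod 8) from rfl,
      show ((3 : ℕ) : ZMod 8) * -((2 : ℕ) : ZMod 8) = ((2 : ℕ) : ZMod 8) from rfl,
      show ((3 : ℕ) : ZMod 8) * ((3 : ℕ) : ZMod 8) = ((1 : ℕ) : ZMod 8) from rfl,
      show ((3 : ℕ) : ZMod 8) * -((3 : ℕ) : ZMod 8) = ((7 : ℕ) : ZMod 8) from rfl, hEv, hneg]
    simp only [hD3, hwd, hud, hr2d, hc0, jz, Fin.val_zero, Fin.val_two, zero_add]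
    push_cast
    linear_combination -((S.cf hζ 4 χ : ℂ) + (ζ ^ 2) * (S.cf hζ 2 χ : ℂ) +
      (ζ + ζ ^ 3) * (S.cf hζ 1 χ : ℂ)) * hz4
  have hconj : conj r2 = r2 := by
    have hc : conj ζ = ζ ^ 7 := by
      rw [Star.conj_root (n := 8) (by norm_num) hz8]
      exact inv_eq_of_mul_eq_one_right (by rw [← pow_succ', hz8])
    rw [hr2d, map_add, map_pow, hc, ← pow_mul]
    linear_combination (ζ * (ζ ^ 8) ^ 5 + ζ * (ζ ^ 8) ^ 4 + ζ * (ζ ^ 8) ^ 3 + ζ * (ζ ^ 8) ^ 2 + ζ * ζ ^ 8 + ζ) * hz8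
  have hsum := S.heights hζ
  -- degrees
  have hrel : ∀ j : ZMod 8, ∑ χ ∈ bset B, (S.cf hζ j χ : ℂ) * (χ : G → ℂ) 1 = 0 := fun j => by
    simp only [← S.cf_spec hζ]
    rw [S.sum_v_value (tau_isClass hζ j) (onRot_tau hζ j), S.L_regular (tau_isClass hζ j) (onRot_tau hζ j)]
    simp
  obtain ⟨b, hbS, hwb, s, hs, hu1, hu3⟩ := exotic_sums hE (i := (0 : Fin 3)) (j := 1) (k := 2) (by decide)
    (by decide) (by decide) (deg := fun χ => (χ : G → ℂ) 1) (fun χ _ => irr_one_ne_zero χ.2)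
    (fun l => hrel _) (hrel _) hr
  set κ : DihedralGroup 8 → ℂ := ind ((1 : ℕ) : ZMod 8) with hκd
  set κ' : DihedralGroup 8 → ℂ := ind ((3 : ℕ) : ZMod 8) with hκ'd
  have hκ : IsClassFunction _ κ := ind_isClass _
  have hκ' : IsClassFunction _ κ' := ind_isClass _
  set A : G → ℂ := cv (S.L κ) (S.L κ) with hA
  have hF : IsClassFunction G (S.L κ) := isClassFunction_indFun _ _
  -- inner products with the square
  have hu : ∀ k : ZMod 8, k ≠ 0 → classInner A (S.L ((8 : ℂ) • ind k)) =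
      ∑ χ ∈ bset B, (D1 χ / 8) ^ 2 * (Nat.card G : ℂ) / (χ : G → ℂ) 1 * conj ((8 : ℂ) * S.v (ind k) χ) := by
    intro k hk
    rw [hA, cv_expand hF hF, classInner_sum_left]
    symm
    refine Eq.trans ?_ (Finset.sum_subset (Finset.subset_univ (bset B)) fun χ _ hχ => ?_)
    · refine Finset.sum_congr rfl fun χ _ => ?_
      rw [classInner_smul_left, ← classInner_symm (S.L ((8 : ℂ) • ind k)), S.v_eq, S.v_eq, S.v_smul, ← h1v χ]
      ring
    · rw [classInner_smul_left, S.v_eq,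
        S.v_other hκ (onRot_ind hk1) fun h => hχ (mem_bset.mpr h)]
      simp
  have hD3c : ∀ χ, conj (D3 χ) = D3 χ := fun χ => by
    simp only [hD3, map_sub, map_add, map_mul, map_intCast, hconj]
  have hD1c : ∀ χ, conj (D1 χ) = D1 χ := fun χ => by
    simp only [hD1, map_sub, map_add, map_mul, map_intCast, hconj]
  have hU1 : classInner A (S.L ((8 : ℂ) • κ)) =
      (Nat.card G : ℂ) / 64 * ((s : ℂ) * 44 / (3 * (b : G → ℂ) 1)) := by
    rw [hu _ hk1, ← hu1, Finset.mul_sum]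
    refine Finset.sum_congr rfl fun χ _ => ?_
    rw [h1v, hD1c]
    ring
  have hU3 : classInner A (S.L ((8 : ℂ) • κ')) =
      (Nat.card G : ℂ) / 64 * ((s : ℂ) * (-4) / (3 * (b : G → ℂ) 1)) := by
    rw [hu _ hk3, ← hu3, Finset.mul_sum]
    refine Finset.sum_congr rfl fun χ _ => ?_
    rw [h3v, hD3c]
    simp only [hD1, hD3, hud]
    ring
  -- the section of a rotation of order eight
  obtain ⟨y0, hy0, hsyl⟩ := (isDefectGroup_iff S.f S.P).mp S.hP
  set g0 : Subgroup.centralizer ({z} : Set G) := S.d (r 1) * y0 with hg0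
  have hunit := char_unit_at_section S.hM S.hf hy0 hsyl (S.d_mem (r 1)) S.hψ S.hψ0
  have hp0 : ppt 2 g0 = S.d (r 1) := ppt_mul Nat.prime_two
    (Subgroup.mem_centralizer_singleton_iff.mp (hsyl.le (S.d_mem (r 1)))) (S.d_ppower _)
    (defectClass_regular S.hM S.hf hy0)
  have hsec : ∀ {ν : DihedralGroup 8 → ℂ}, IsClassFunction _ ν → ∀ c : ℂ,
      (∀ y, orderOf y = 8 → ν y = c) → S.th ν g0 = c * (S.ψ : Subgroup.centralizer ({z} : Set G) → ℂ) g0 :=
    fun hν c hc => S.th_const hν fun w y hy => hc y (by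
      rw [← S.orderOf_d y, ← hy, hp0, show w * S.d (r 1) * w⁻¹ = MulAut.conj w (S.d (r 1)) from rfl,
        MulEquiv.orderOf_eq, S.orderOf_d, orderOf_r_one])
  obtain ⟨μ, hμ, hX⟩ := S.exists_th (F := fun c => A (c : G))
  have hμk : ∀ k : ZMod 8, μ (r k) = classInner A (S.L ((8 : ℂ) • ind k)) := fun k => by
    have hcl : IsClassFunction _ ((8 : ℂ) • ind k) := fun g t => by simp only [Pi.smul_apply, ind_isClass _ g t]
    rw [DBlock.L, frobenius_right _ _ (show IsClassFunction G A from cv_isClass hF hF), ← S.inner_blockPart hcl, hX,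
      S.th_inner hμ hcl, ← h8, inner_ind hμ]
  have hμneg : ∀ k : ZMod 8, μ (r (-k)) = μ (r k) := fun k => by
    have h := hμ (r k) (sr 0)
    simp only [inv_sr, sr_mul_r, sr_mul_sr] at h
    rw [← h]
    congr 2
    ring
  have hXg : S.th μ g0 = μ (r 1) * S.th κ g0 + μ (r 3) * S.th κ' g0 := by
    have h0 : S.th (μ + (-μ (r 1)) • κ + (-μ (r 3)) • κ') g0 = 0 := by
      rw [hsec (fun g t => by simp only [Pi.add_apply, Pi.smul_apply, hμ g t, hκ g t, hκ' g t]) 0, zero_mul]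
      intro y hy
      have h := order_eight hy
      rcases h with rfl | rfl | rfl | rfl <;>
        simp (config := { decide := true }) [hκd, hκ'd, ind, hμneg]
    rw [S.th_add, S.th_add, S.th_smul, S.th_smul] at h0
    simp only [Pi.add_apply, Pi.smul_apply, smul_eq_mul] at h0
    linear_combination h0
  have hQ : S.th κ g0 + S.th κ' g0 = (S.ψ : Subgroup.centralizer ({z} : Set G) → ℂ) g0 := by
    rw [← Pi.add_apply, ← S.th_add, hsec (fun g t => by simp only [Pi.add_apply, hκ g t, hκ' g t]) 1, one_mul]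
    intro y hy
    have h := order_eight hy
    rcases h with rfl | rfl | rfl | rfl <;> simp (config := { decide := true }) [hκd, hκ'd, ind]
  have hzero : cv (S.th κ) (S.th κ) g0 = 0 := by
    rw [S.cv_th hκ hκ, Pi.smul_apply, smul_eq_mul,
      hsec (S.back_isClass (cv_isClass (S.cls_isClass hκ) (S.cls_isClass hκ))) 0, zero_mul, mul_zero]
    intro y hy
    refine Finset.sum_eq_zero fun x _ => ?_
    simp only [DBlock.cls, map_mul, map_inv, MulEquiv.symm_apply_apply]
    generalize S.ι.symm x = v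
    rcases v with i | i
    swap
    · exact mul_eq_zero_of_left rfl _
    by_contra hne
    obtain ⟨h1, h2⟩ := mul_ne_zero_iff.mp hne
    rw [inv_r] at h2
    have hsup : ∀ i : ZMod 8, κ (r i) ≠ 0 → i = 1 ∨ i = -1 := fun i hi => by
      by_contra hc
      push Not at hc
      refine hi ?_
      show (if i = ((1 : ℕ) : ZMod 8) then (1 : ℂ) else 0) + (if i = -((1 : ℕ) : ZMod 8) then 1 else 0) = 0
      rw [Nat.cast_one, if_neg hc.1, if_neg hc.2, add_zero]
    rcases order_eight hy with rfl | rfl | rfl | rfl <;> rw [r_mul_r] at h2 <;>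
      rcases hsup i h1 with rfl | rfl <;> rcases hsup _ h2 with e | e <;> exact absurd e (by decide)
  have hbp := S.blockPart_square hκ (onRot_ind hk1) (memLR_ind S.hM _) (fun y y' hy he => by
    rcases order_eight (he.trans (ind_order_eight y (Or.inl Nat.cast_one) hy)) with e | e | e | e <;>
      exact ⟨_, by decide, e⟩) g0
  rw [hX, hzero, sub_zero, hXg, hμk, hμk, show ((1 : ZMod 8)) = ((1 : ℕ) : ZMod 8) from rfl,
    show ((3 : ZMod 8)) = ((3 : ℕ) : ZMod 8) from rfl, hU1, hU3] at hbp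
  -- the factor is a unit
  have hbB : b ∈ B := mem_bset.mp hbS
  have hoddw : Odd (S.colZ hζ b) := by
    rw [DBlock.colZ, Int.odd_sub, iff_true_right (even_two_mul _), odd_neg]
    rcases hE.1 b hbS with h | h | h
    · rw [show S.cf hζ (((8 / 2 : ℕ)) : ZMod 8) b = -1 from h]; decide
    · exact absurd h hwb
    · rw [show S.cf hζ (((8 / 2 : ℕ)) : ZMod 8) b = 1 from h]; decide
  have hb0 := (hsum.1 b hbB).2.1 hoddw
  have hdef : blockDefect 2 B = 4 := by
    have h := S.two_pow_defect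
    rw [S.hdef] at h
    exact Nat.pow_right_injective (le_refl 2) (h.trans (by norm_num))
  obtain ⟨c, hc, hdeg⟩ := deg_eq_pow_mul Nat.prime_two b.2
  have hfac : (Nat.card G).factorization 2 = dexp 2 (b : G → ℂ) + 4 := by
    have h1 := dmin_add_defect (p := 2) (block_nonempty hP S.hB)
    have h2 := dexp_eq_height_add (p := 2) hbB
    omega
  set g' := Nat.card G / 2 ^ (Nat.card G).factorization 2 with hg'
  have hg'2 : ¬ 2 ∣ g' := Nat.not_dvd_ordCompl Nat.prime_two Nat.card_pos.ne'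
  have hG : (Nat.card G : ℂ) = (2 : ℂ) ^ dexp 2 (b : G → ℂ) * 16 * g' := by
    have h := Nat.ordProj_mul_ordCompl_eq_self (Nat.card G) 2
    rw [hfac, pow_add] at h
    have h' := congrArg (fun n : ℕ => (n : ℂ)) h
    rw [hg', hfac]
    push_cast at h'
    rw [← h', pow_add]
    norm_num
  have hdb : (b : G → ℂ) 1 = (2 : ℂ) ^ dexp 2 (b : G → ℂ) * c := by
    rw [char_one_eq_deg (irr_isCharacter b.2), hdeg]
    push_cast
    rfl
  have hg0' : (g' : ℂ) ≠ 0 := Nat.cast_ne_zero.mpr fun h => hg'2 (h ▸ dvd_zero 2)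
  have hc0' : (c : ℂ) ≠ 0 := Nat.cast_ne_zero.mpr fun h => hc (h ▸ dvd_zero 2)
  have hs2 : (s : ℂ) * s = 1 := by rcases hs with h | h <;> simp [h]
  set Q1 := S.th κ g0
  set Q3 := S.th κ' g0
  have hLI : MemLocalIdeal M (11 * Q1 - Q3) := by
    have h := memLI_mul_right hP hbp (memLR_mul hP (memLR_mul hP (memLR_mul hP (memLR_intCast hP s)
      (memLR_natCast hP 3)) (memLR_natCast hP c)) (memLR_inv_natCast S.hM hg'2))
    convert h using 1
    rw [hG, hdb]
    push_cast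
    field_simp
    linear_combination (-64 * (11 * Q1 - Q3)) * hs2
  refine hunit ?_
  show MemLocalIdeal M ((S.ψ : Subgroup.centralizer ({z} : Set G) → ℂ) g0)
  rw [← hQ, show Q1 + Q3 = (2 : ℂ) * (6 * Q1) - (11 * Q1 - Q3) by ring]
  refine memLI_sub hP (memLI_mul_right hP (by exact_mod_cast memLI_p S.hM) (memLR_mul hP ?_
    (S.th_memLR (memLR_ind S.hM _) g0))) hLI
  exact_mod_cast memLR_natCast hP 6

end Cfsg.Agent.Char.DihBlock
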