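import Cfsg.Agent.Lib.Char.DihedralColumns
import Cfsg.Agent.Lib.Char.Induction
import Mathlib.LinearAlgebra.Matrix.ToLin

/-!
# Class functions of a dihedral group on the rotations
-/

set_option autoImplicit false
set_option linter.unusedSectionVars false

namespace Cfsg.Agent.Char.DihBlock

open Cfsg DihedralGroup
open scoped ComplexConjugate

variable {N : ℕ} [NeZero N] {ζ : ℂ} (hζ : IsPrimitiveRoot ζ N)

/-- The characters of degree two. -/
noncomputable def dth (j : ZMod N) : DihedralGroup N → ℂ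
  | r i => dihE hζ (j * i) + dihE hζ (-(j * i))
  | sr _ => 0

/-- The matrices of the representations of degree two. -/
noncomputable def dmat (j : ZMod N) : DihedralGroup N →* Matrix (Fin 2) (Fin 2) ℂ where
  toFun
    | r i => !![dihE hζ (j * i), 0; 0, dihE hζ (-(j * i))]
    | sr i => !![0, dihE hζ (-(j * i)); dihE hζ (j * i), 0]
  map_one' := by
    simp only [DihedralGroup.one_def, mul_zero, neg_zero, AddChar.map_zero_eq_one]
    exact Matrix.one_fin_two.symm
  map_mul' := by
    rintro (a | a) (b | b) <;>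
      simp only [r_mul_r, r_mul_sr, sr_mul_r, sr_mul_sr, Matrix.mul_fin_two, mul_zero, zero_mul, add_zero,
        zero_add, ← AddChar.map_add_eq_mul] <;>
      ring_nf

theorem dth_isCharacter (j : ZMod N) : IsCharacter _ (dth hζ j) := by
  let ρ : Representation ℂ (DihedralGroup N) (Fin 2 → ℂ) :=
    (Matrix.toLinAlgEquiv' (R := ℂ) (n := Fin 2)).toRingEquiv.toMonoidHom.comp (dmat hζ j)
  refine ⟨2, ρ, funext fun y => ?_⟩
  show LinearMap.trace ℂ _ (Matrix.toLin' (dmat hζ j y)) = _
  rw [Matrix.trace_toLin'_eq]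
  rcases y with i | i <;> simp [dmat, dth, Matrix.trace_fin_two]

theorem dth_isClass (j : ZMod N) : IsClassFunction _ (dth hζ j) :=
  isClassFunction_character (dth_isCharacter hζ j)

theorem sum_dihedral (F : DihedralGroup N → ℂ) :
    ∑ y, F y = (∑ i, F (r i)) + ∑ i, F (sr i) := by
  rw [← Equiv.sum_comp (show ZMod N ⊕ ZMod N ≃ DihedralGroup N from
    ⟨fun s => s.elim r sr, fun d => match d with | r i => Sum.inl i | sr i => Sum.inr i,
      by rintro (i | i) <;> rfl, by rintro (i | i) <;> rfl⟩) F, Fintype.sum_sum_type]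
  rfl

theorem conj_dihE (b : ZMod N) : conj (dihE hζ b) = dihE hζ (-b) := by
  rw [AddChar.map_neg_eq_inv, ← Complex.inv_eq_conj]
  refine Complex.norm_eq_one_of_pow_eq_one ?_ (NeZero.ne N)
  rw [← AddChar.map_nsmul_eq_pow, nsmul_eq_mul, ZMod.natCast_self, zero_mul, AddChar.map_zero_eq_one]

theorem dth_inner (a b : ZMod N) :
    classInner (dth hζ a) (dth hζ b) = (if a = b then 1 else 0) + if a = -b then (1 : ℂ) else 0 := by
  have key : ∀ i, dth hζ a (r i) * conj (dth hζ b (r i)) =
      dihE hζ ((a - b) * i) + dihE hζ ((a + b) * i) + dihE hζ ((-a - b) * i) + dihE hζ ((-a + b) * i) := by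
    intro i
    simp only [dth, map_add, conj_dihE, neg_neg, add_mul, mul_add, ← AddChar.map_add_eq_mul]
    ring_nf
  rw [classInner, DihedralGroup.nat_card, sum_dihedral,
    show (∑ i, dth hζ a (sr i) * conj (dth hζ b (sr i))) = 0 from
      Finset.sum_eq_zero fun i _ => by simp [dth], add_zero, Finset.sum_congr rfl fun i _ => key i]
  simp only [Finset.sum_add_distrib, dihE_sum_left]
  have e1 : (a - b = 0) ↔ a = b := sub_eq_zero
  have e2 : (a + b = 0) ↔ a = -b := add_eq_zero_iff_eq_neg
  have e3 : (-a - b = 0) ↔ a = -b := ⟨fun h => by linear_combination -h, fun h => by rw [h]; ring⟩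
  have e4 : (-a + b = 0) ↔ a = b := ⟨fun h => by linear_combination -h, fun h => by rw [h]; ring⟩
  simp only [e1, e2, e3, e4]
  have hN : (N : ℂ) ≠ 0 := Nat.cast_ne_zero.mpr (NeZero.ne N)
  push_cast
  split_ifs <;> field_simp <;> ring

/-- The difference to the trivial one. -/
noncomputable def tau (j : ZMod N) : DihedralGroup N → ℂ := dth hζ 0 - dth hζ j

theorem dth_neg (j : ZMod N) : dth hζ (-j) = dth hζ j := by
  funext y
  rcases y with i | i
  · simp only [dth, neg_mul, neg_neg, add_comm]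
  · rfl

theorem tau_neg (j : ZMod N) : tau hζ (-j) = tau hζ j := by rw [tau, tau, dth_neg]

theorem tau_isClass (j : ZMod N) : IsClassFunction _ (tau hζ j) := fun g k => by
  simp only [tau, Pi.sub_apply, dth_isClass hζ _ g k]

/-- Functions supported on the rotations other than the identity. -/
def OnRot (μ : DihedralGroup N → ℂ) : Prop := μ 1 = 0 ∧ ∀ i, μ (sr i) = 0

theorem OnRot.add {μ ν : DihedralGroup N → ℂ} (h : OnRot μ) (h' : OnRot ν) : OnRot (μ + ν) :=
  ⟨by simp [h.1, h'.1], fun i => by simp [h.2 i, h'.2 i]⟩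

theorem OnRot.smul {μ : DihedralGroup N → ℂ} (h : OnRot μ) (c : ℂ) : OnRot (c • μ) :=
  ⟨by simp [h.1], fun i => by simp [h.2 i]⟩

theorem onRot_zero : OnRot (0 : DihedralGroup N → ℂ) := ⟨rfl, fun _ => rfl⟩

theorem OnRot.sum {ι : Type*} (s : Finset ι) {μ : ι → DihedralGroup N → ℂ} (h : ∀ i ∈ s, OnRot (μ i)) :
    OnRot (∑ i ∈ s, μ i) :=
  Finset.sum_induction _ OnRot (fun _ _ => OnRot.add) onRot_zero h

theorem onRot_tau (j : ZMod N) : OnRot (tau hζ j) :=
  ⟨by rw [DihedralGroup.one_def]; simp [tau, dth, -r_zero], fun i => by simp [tau, dth]⟩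

open scoped Classical in
/-- The sum of the indicators of a rotation and of its inverse. -/
noncomputable def ind (k : ZMod N) : DihedralGroup N → ℂ
  | r i => (if i = k then 1 else 0) + if i = -k then (1 : ℂ) else 0
  | sr _ => 0

theorem onRot_ind {k : ZMod N} (hk : k ≠ 0) : OnRot (ind k) := by
  refine ⟨?_, fun i => rfl⟩
  rw [DihedralGroup.one_def]
  simp [ind, Ne.symm hk, eq_comm (a := (0 : ZMod N)), hk]

theorem ind_eq (k : ZMod N) : (N : ℂ) • ind k = ∑ j, dihE hζ (k * j) • dth hζ j := by
  classical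
  funext y
  rcases y with i | i
  · simp only [Pi.smul_apply, smul_eq_mul, Finset.sum_apply, dth, mul_add, ← AddChar.map_add_eq_mul,
      Finset.sum_add_distrib]
    rw [show (fun j : ZMod N => dihE hζ (k * j + j * i)) = fun j => dihE hζ ((k + i) * j) from
        funext fun j => by ring_nf,
      show (fun j : ZMod N => dihE hζ (k * j + -(j * i))) = fun j => dihE hζ ((k - i) * j) from
        funext fun j => by ring_nf, dihE_sum_left, dihE_sum_left]
    have e1 : (k + i = 0) ↔ i = -k := ⟨fun h => by linear_combination h, fun h => by rw [h]; ring⟩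
    have e2 : (k - i = 0) ↔ i = k := ⟨fun h => by linear_combination -h, fun h => by rw [h]; ring⟩
    simp only [e1, e2, ind, mul_add, mul_ite, mul_one, mul_zero, add_comm]
  · simp [ind, dth]

theorem ind_eq_tau {k : ZMod N} (hk : k ≠ 0) : (N : ℂ) • ind k = -∑ j, dihE hζ (k * j) • tau hζ j := by
  rw [ind_eq hζ]
  simp only [tau, smul_sub, Finset.sum_sub_distrib, ← Finset.sum_smul, dihE_sum_left, if_neg hk, zero_smul,
    zero_sub, neg_neg]

theorem ind_isClass (k : ZMod N) : IsClassFunction _ (ind k) := by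
  have hprim : ∃ ω : ℂ, IsPrimitiveRoot ω N := ⟨_, Complex.isPrimitiveRoot_exp N (NeZero.ne N)⟩
  obtain ⟨ω, hω⟩ := hprim
  intro g h
  have e := ind_eq hω k
  have h1 := congrFun e (h * g * h⁻¹)
  have h2 := congrFun e g
  simp only [Pi.smul_apply, smul_eq_mul, Finset.sum_apply, dth_isClass hω _ g h] at h1 h2
  rw [← h2] at h1
  exact mul_left_cancel₀ (Nat.cast_ne_zero.mpr (NeZero.ne N)) h1

theorem inner_ind {μ : DihedralGroup N → ℂ} (hμ : IsClassFunction _ μ) (k : ZMod N) :
    classInner μ ((N : ℂ) • ind k) = μ (r k) := by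
  classical
  have hneg : μ (r (-k)) = μ (r k) := by
    have h := hμ (r k) (sr 0)
    simp only [inv_sr, sr_mul_r, sr_mul_sr] at h
    rw [← h]
    congr 2
    ring
  rw [classInner, DihedralGroup.nat_card, sum_dihedral,
    show (∑ i, μ (sr i) * conj (((N : ℂ) • ind k : DihedralGroup N → ℂ) (sr i))) = 0 from
      Finset.sum_eq_zero fun i _ => by simp [ind], add_zero]
  simp only [Pi.smul_apply, smul_eq_mul, ind, map_add, map_natCast, apply_ite conj,
    map_zero, mul_add, mul_ite, mul_one, mul_zero, Finset.sum_add_distrib, Finset.sum_ite_eq', Finset.mem_univ,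
    if_true, hneg]
  have hN : (N : ℂ) ≠ 0 := Nat.cast_ne_zero.mpr (NeZero.ne N)
  push_cast
  field_simp
  ring

end Cfsg.Agent.Char.DihBlock
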