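import Cfsg.Agent.Lib.Char.DihedralBlock.Theta
import Cfsg.Agent.Lib.Char.DihedralBlock.Rotations

/-!
# Induction from the centralizer of the central involution

The carried functions of the rotations live on the sections whose involution is the central one; induction is an
isometry there and lands in the block.
-/

set_option autoImplicit false
set_option linter.unusedSectionVars false
set_option linter.style.haveILetI false

namespace Cfsg.Agent.Char.DihBlock

open Cfsg DihedralGroup
open scoped ComplexConjugate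

universe u

theorem rot_pow_half {N a : ℕ} [NeZero N] (hN : N = 2 ^ a) (h2 : 2 ∣ N) {i : ZMod N} (hi : i ≠ 0) :
    ∃ k : ℕ, (r i : DihedralGroup N) ^ 2 ^ k = r ((N / 2 : ℕ) : ZMod N) := by
  have hex : ∃ k : ℕ, ((2 ^ k : ℕ) : ZMod N) * i = 0 := ⟨a, by rw [← hN, ZMod.natCast_self, zero_mul]⟩
  classical
  set k := Nat.find hex with hk
  have hk0 : k ≠ 0 := fun h => hi (by
    have := Nat.find_spec hex
    rw [← hk, h] at this
    simpa using this)
  obtain ⟨m, hm⟩ := Nat.exists_eq_succ_of_ne_zero hk0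
  refine ⟨m, ?_⟩
  have hlt : ((2 ^ m : ℕ) : ZMod N) * i ≠ 0 := Nat.find_min hex (show m < k by omega)
  have h : ((2 ^ k : ℕ) : ZMod N) * i = 0 := Nat.find_spec hex
  rw [hm, Nat.succ_eq_add_one, pow_succ, Nat.mul_two, Nat.cast_add, add_mul] at h
  rw [r_pow, mul_comm i]
  rcases zmod_two_torsion h2 h with h0 | h0
  · exact absurd h0 hlt
  · rw [h0]

variable {G : Type u} [Group G] [Fintype G]

/-- The involution in the `2`-part is `z`. -/
def Good (z g : G) : Prop := ∃ k : ℕ, ppt 2 g ^ 2 ^ k = z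

theorem Good.commute {z g : G} (h : Good z g) : g * z = z * g := by
  obtain ⟨k, hk⟩ := h
  have h1 : Commute g (ppt 2 g) := by
    obtain ⟨y, hy, hc, -, -⟩ := isPPart_ppt Nat.prime_two g
    have h1 : Commute (ppt 2 g) (ppt 2 g * y) := (Commute.refl _).mul_right hc
    rw [hy] at h1
    exact h1.symm
  rw [← hk]
  exact h1.pow_right _

theorem Good.mem {z g : G} (h : Good z g) : g ∈ Subgroup.centralizer ({z} : Set G) :=
  Subgroup.mem_centralizer_singleton_iff.mpr h.commute

theorem Good.singular {z g : G} (hz : orderOf z = 2) (h : Good z g) : 2 ∣ orderOf g := by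
  by_contra hr
  obtain ⟨k, hk⟩ := h
  rw [(ppt_eq_one_iff Nat.prime_two g).mpr hr, one_pow] at hk
  rw [← hk, orderOf_one] at hz
  omega

theorem Good.conj_mem {z g t : G} (hz : orderOf z = 2) (h : Good z g) (h' : Good z (t * g * t⁻¹)) :
    t ∈ Subgroup.centralizer ({z} : Set G) := by
  obtain ⟨k, hk⟩ := h
  obtain ⟨l, hl⟩ := h'
  rw [ppt_conj Nat.prime_two] at hl
  have e : (t * ppt 2 g * t⁻¹) ^ 2 ^ k = t * z * t⁻¹ := by rw [conj_pow, hk]
  have hz' : orderOf (t * z * t⁻¹) = 2 := by
    rw [show t * z * t⁻¹ = MulAut.conj t z from rfl, MulEquiv.orderOf_eq, hz]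
  have key : ∀ {a b : ℕ} {x y w : G}, w ^ 2 ^ a = x → w ^ 2 ^ b = y → orderOf x = 2 → orderOf y = 2 → a < b →
      False := by
    intro a b x y w ha hb hx hy hab
    obtain ⟨c, rfl⟩ := Nat.exists_eq_add_of_lt hab
    have : y = 1 := by
      rw [← hb, show 2 ^ (a + c + 1) = 2 ^ a * 2 * 2 ^ c by rw [pow_succ, pow_add]; ring, pow_mul, pow_mul, ha,
        ← hx, pow_orderOf_eq_one, one_pow]
    rw [this, orderOf_one] at hy
    omega
  have hkl : k = l := by
    rcases lt_trichotomy k l with h | h | h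
    · exact (key e hl hz' hz h).elim
    · exact h
    · exact (key hl e hz hz' h).elim
  rw [hkl, hl] at e
  refine Subgroup.mem_centralizer_singleton_iff.mpr ?_
  calc t * z = t * z * t⁻¹ * t := by group
    _ = z * t := by rw [← e]

variable {M : Ideal AlgInt} {B : Set (IrrCharacter G)} {N : ℕ} [NeZero N] {z : G}
  [Fintype (Subgroup.centralizer ({z} : Set G))] (S : DBlock M B N z)

namespace DBlock

theorem orderOf_z (S : DBlock M B N z) : orderOf z = 2 := by
  rw [← S.hz, Subgroup.orderOf_coe, Subgroup.orderOf_coe, MulEquiv.orderOf_eq]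
  refine orderOf_eq_prime ?_ ?_
  · rw [r_pow, Nat.cast_two, mul_two, ← Nat.cast_add, ← two_mul, Nat.mul_div_cancel' S.two_dvd, ZMod.natCast_self]
    rfl
  · rw [DihedralGroup.one_def, Ne, r.injEq]
    exact half_ne S.two_dvd

theorem good_of_ne {μ : DihedralGroup N → ℂ} (hμ : IsClassFunction _ μ) (ho : OnRot μ)
    {c : Subgroup.centralizer ({z} : Set G)} (hne : S.th μ c ≠ 0) : Good z (c : G) := by
  by_contra hg
  refine hne (S.th_eq_zero hμ fun w y hy => ?_)
  by_contra hy0
  rcases y with i | i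
  swap
  · exact hy0 (ho.2 i)
  have hi : i ≠ 0 := fun h => hy0 (by rw [h, show (r (0 : ZMod N)) = 1 from rfl, ho.1])
  obtain ⟨a, ha⟩ := S.hN
  obtain ⟨k, hk⟩ := rot_pow_half ha S.two_dvd hi
  refine hg ⟨k, ?_⟩
  have h1 : (w * ppt 2 c * w⁻¹) ^ 2 ^ k = S.zC := by
    rw [hy, ← S.d_half, ← hk]
    simp only [d, map_pow, SubgroupClass.coe_pow]
  rw [conj_pow] at h1
  have h2 : (ppt 2 c) ^ 2 ^ k = S.zC := by
    calc (ppt 2 c) ^ 2 ^ k = w⁻¹ * (w * ppt 2 c ^ 2 ^ k * w⁻¹) * w := by group
      _ = S.zC := by rw [h1, mul_assoc, S.zC_comm w, ← mul_assoc, inv_mul_cancel, one_mul]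
  rw [ppt_coe Nat.prime_two, ← SubgroupClass.coe_pow, h2]
  rfl

/-- The induced function. -/
noncomputable def L (μ : DihedralGroup N → ℂ) : G → ℂ :=
  indFun (Subgroup.centralizer ({z} : Set G)) (S.th μ)

theorem L_eq {μ : DihedralGroup N → ℂ} (hμ : IsClassFunction _ μ) (ho : OnRot μ)
    {c : Subgroup.centralizer ({z} : Set G)} (hc : Good z (c : G)) : S.L μ (c : G) = S.th μ c := by
  classical
  have h : ∀ x : G, extendByZero (Subgroup.centralizer ({z} : Set G)) (S.th μ) (x⁻¹ * (c : G) * x) =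
      if x ∈ Subgroup.centralizer ({z} : Set G) then S.th μ c else 0 := by
    intro x
    split_ifs with hx
    · have hm : x⁻¹ * (c : G) * x ∈ Subgroup.centralizer ({z} : Set G) := mul_mem (mul_mem (inv_mem hx) c.2) hx
      rw [extendByZero_mem _ _ hm, ← S.th_isClass hμ c ⟨x⁻¹, inv_mem hx⟩]
      congr 1
      exact Subtype.ext (by simp)
    · by_contra hne
      have hm : x⁻¹ * (c : G) * x ∈ Subgroup.centralizer ({z} : Set G) := by
        by_contra h'
        exact hne (extendByZero_not_mem _ _ h')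
      rw [extendByZero_mem _ _ hm] at hne
      have hg := S.good_of_ne hμ ho hne
      refine hx (inv_mem_iff.mp (hc.conj_mem S.orderOf_z ?_))
      rwa [inv_inv]
  rw [L, indFun]
  simp only [h]
  rw [← Finset.sum_filter, Finset.sum_const, nsmul_eq_mul, ← mul_assoc,
    show (Finset.univ.filter fun x : G => x ∈ Subgroup.centralizer ({z} : Set G)).card =
      Nat.card (Subgroup.centralizer ({z} : Set G)) by rw [Nat.card_eq_fintype_card, Fintype.card_subtype],
    inv_mul_cancel₀ (Nat.cast_ne_zero.mpr Nat.card_pos.ne'), one_mul]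

theorem L_eq_zero {μ : DihedralGroup N → ℂ} (hμ : IsClassFunction _ μ) (ho : OnRot μ) {g : G}
    (hg : ∀ t : G, ¬ Good z (t⁻¹ * g * t)) : S.L μ g = 0 := by
  rw [L, indFun, Finset.sum_eq_zero fun x _ => ?_, mul_zero]
  by_contra hne
  have hm : x⁻¹ * g * x ∈ Subgroup.centralizer ({z} : Set G) := by
    by_contra h'
    exact hne (extendByZero_not_mem _ _ h')
  rw [extendByZero_mem _ _ hm] at hne
  exact hg x (S.good_of_ne hμ ho hne)

theorem L_regular {μ : DihedralGroup N → ℂ} (hμ : IsClassFunction _ μ) (ho : OnRot μ) {g : G}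
    (hg : ¬ 2 ∣ orderOf g) : S.L μ g = 0 := by
  refine S.L_eq_zero hμ ho fun t h => hg ?_
  have := h.singular S.orderOf_z
  rwa [show t⁻¹ * g * t = MulAut.conj t⁻¹ g by simp, MulEquiv.orderOf_eq] at this

theorem L_inner {μ ν : DihedralGroup N → ℂ} (hμ : IsClassFunction _ μ) (hμo : OnRot μ)
    (hν : IsClassFunction _ ν) (hνo : OnRot ν) : classInner (S.L μ) (S.L ν) = classInner μ ν := by
  rw [L, L, frobenius _ _ (isClassFunction_indFun _ _), ← S.th_inner hμ hν, classInner, classInner]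
  congr 1
  refine Finset.sum_congr rfl fun c _ => ?_
  by_cases h0 : S.th μ c = 0
  · rw [h0, zero_mul, zero_mul]
  · have e : indFun (Subgroup.centralizer ({z} : Set G)) (S.th ν) (c : G) = S.th ν c :=
      S.L_eq hν hνo (S.good_of_ne hμ hμo h0)
    rw [e]

/-- The coefficient at a character. -/
noncomputable def v (μ : DihedralGroup N → ℂ) (χ : IrrCharacter G) : ℂ :=
  classInner (S.th μ) fun c => (χ : G → ℂ) (c : G)

theorem v_eq (μ : DihedralGroup N → ℂ) (χ : IrrCharacter G) : classInner (S.L μ) (χ : G → ℂ) = S.v μ χ :=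
  frobenius _ _ (isClassFunction_character (irr_isCharacter χ.2))

theorem v_sum {ι : Type*} (s : Finset ι) (c : ι → ℂ) (μ : ι → DihedralGroup N → ℂ) (χ : IrrCharacter G) :
    S.v (∑ i ∈ s, c i • μ i) χ = ∑ i ∈ s, c i * S.v (μ i) χ := by
  rw [v, ← S.thL_apply, map_sum, classInner_sum_left]
  simp only [map_smul, thL_apply, classInner_smul_left, v]

theorem v_smul (c : ℂ) (μ : DihedralGroup N → ℂ) (χ : IrrCharacter G) : S.v (c • μ) χ = c * S.v μ χ := by
  rw [v, v, S.th_smul, classInner_smul_left]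

theorem v_other {μ : DihedralGroup N → ℂ} (hμ : IsClassFunction _ μ) (ho : OnRot μ) {χ : IrrCharacter G}
    (hχ : χ ∉ B) : S.v μ χ = 0 := by
  classical
  have hres : IsClassFunction (Subgroup.centralizer ({z} : Set G)) fun c => (χ : G → ℂ) (c : G) :=
    isClassFunction_restrict (isClassFunction_character (irr_isCharacter χ.2))
  rw [v, ← classInner_symm, ← S.inner_blockPart hμ, classInner_symm, classInner, Finset.sum_eq_zero fun c _ => ?_,
    mul_zero]
  by_cases h0 : S.th μ c = 0
  · rw [h0, zero_mul]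
  obtain ⟨k, hk⟩ := S.good_of_ne hμ ho h0
  refine mul_eq_zero_of_right _ ?_
  rw [← sum_blockCoeff_shift S.f hres c, map_eq_zero]
  refine second_main_induced S.hM S.hind c (isPPart_ppt Nat.prime_two (c : G)) ?_ χ hχ
  intro t ht
  rw [Subgroup.mem_centralizer_singleton_iff] at ht ⊢
  rw [← hk]
  exact (show Commute t (ppt 2 (c : G)) from ht).pow_right _

open scoped Classical in
theorem L_expand (μ : DihedralGroup N → ℂ) :
    S.L μ = ∑ χ : IrrCharacter G, S.v μ χ • (χ : G → ℂ) := by
  conv_lhs => rw [classFun_expansion (show IsClassFunction G (S.L μ) from isClassFunction_indFun _ _)]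
  simp only [v_eq]

open scoped Classical in
theorem parseval {μ ν : DihedralGroup N → ℂ} (hμ : IsClassFunction _ μ) (hμo : OnRot μ)
    (hν : IsClassFunction _ ν) (hνo : OnRot ν) :
    ∑ χ ∈ bset B, S.v μ χ * conj (S.v ν χ) = classInner μ ν := by
  rw [← S.L_inner hμ hμo hν hνo]
  conv_rhs => rw [S.L_expand μ, classInner_sum_left]
  rw [Finset.sum_subset (Finset.subset_univ (bset B))]
  · refine Finset.sum_congr rfl fun χ _ => ?_
    rw [classInner_smul_left, ← classInner_symm (S.L ν), S.v_eq]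
  · intro χ _ hχ
    rw [S.v_other hμ hμo fun h => hχ (mem_bset.mpr h), zero_mul]

theorem sum_v_value {μ : DihedralGroup N → ℂ} (hμ : IsClassFunction _ μ) (ho : OnRot μ) (g : G) :
    ∑ χ ∈ bset B, S.v μ χ * (χ : G → ℂ) g = S.L μ g := by
  classical
  conv_rhs => rw [S.L_expand μ, Finset.sum_apply]
  simp only [Pi.smul_apply, smul_eq_mul]
  refine Finset.sum_subset (Finset.subset_univ _) fun χ _ hχ => ?_
  rw [S.v_other hμ ho fun h => hχ (mem_bset.mpr h), zero_mul]

theorem v_dth_nat {ζ : ℂ} (hζ : IsPrimitiveRoot ζ N) (j : ZMod N) (χ : IrrCharacter G) :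
    ∃ n : ℕ, S.v (dth hζ j) χ = n :=
  classInner_natCast (S.th_character (dth_isCharacter hζ j))
    (isCharacter_comp (Subgroup.centralizer ({z} : Set G)).subtype (irr_isCharacter χ.2))

theorem v_tau_int {ζ : ℂ} (hζ : IsPrimitiveRoot ζ N) (j : ZMod N) (χ : IrrCharacter G) :
    ∃ n : ℤ, S.v (tau hζ j) χ = n := by
  obtain ⟨a, ha⟩ := S.v_dth_nat hζ 0 χ
  obtain ⟨b, hb⟩ := S.v_dth_nat hζ j χ
  refine ⟨(a : ℤ) - b, ?_⟩
  rw [v, tau, ← S.thL_apply, map_sub, classInner_sub_left, thL_apply, thL_apply]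
  push_cast
  rw [← ha, ← hb]
  rfl

end DBlock

end Cfsg.Agent.Char.DihBlock
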