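import Cfsg.Agent.Lib.Char.DihedralBlock.Exotic
import Cfsg.Agent.Lib.Char.NilpotentAbelian
import Cfsg.Agent.Lib.Char.KleinFourBlock

/-!
# The invariants of a block with dihedral defect group
-/

set_option autoImplicit false
set_option linter.unusedSectionVars false
set_option linter.style.haveILetI false

namespace Cfsg.Agent.Char.DihBlock

open Cfsg DihedralGroup
open scoped ComplexConjugate

universe u

variable {G : Type u} [Group G] [Fintype G]
variable {M : Ideal AlgInt} {B : Set (IrrCharacter G)} {N : ℕ} [NeZero N] {z : G}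
  [Fintype (Subgroup.centralizer ({z} : Set G))] (S : DBlock M B N z) {ζ : ℂ} (hζ : IsPrimitiveRoot ζ N)

theorem neg_half (h2 : 2 ∣ N) : -((N / 2 : ℕ) : ZMod N) = ((N / 2 : ℕ) : ZMod N) := by
  rw [neg_eq_iff_add_eq_zero, ← Nat.cast_add, ← two_mul, Nat.mul_div_cancel' h2, ZMod.natCast_self]

include hζ in
open scoped Classical in
/-- The columns have the standard shape. -/
theorem standard (S : DBlock M B N z) :
    (bset B).card = N / 2 + 3 ∧ ((bset B).filter fun χ => Odd (S.colZ hζ χ)).card = 4 ∧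
      ∀ χ ∈ bset B, ¬ Odd (S.colZ hζ χ) → S.colZ hζ χ = 2 ∨ S.colZ hζ χ = -2 := by
  have h2 := S.two_dvd
  obtain ⟨hcol, hodd⟩ := S.heights hζ
  set h : ZMod N := ((N / 2 : ℕ) : ZMod N) with hh
  have hne : h ≠ 0 := half_ne h2
  have gram : ∀ {a b : ZMod N}, a ≠ 0 → b ≠ 0 → ∀ k : ℤ,
      (2 : ℂ) + ((if a = b then 1 else 0) + if a = -b then (1 : ℂ) else 0) = (k : ℂ) →
        ∑ χ ∈ bset B, S.cf hζ a χ * S.cf hζ b χ = k := fun {a b} ha hb k hk => by
    exact_mod_cast (S.cf_gram hζ a b ha hb).trans hk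
  have hN2 : 2 ≤ N / 2 := by
    obtain ⟨a, ha⟩ := S.hN
    rw [ha, pow_add]
    have := Nat.one_le_two_pow (n := a)
    omega
  rcases select (S := bset B) (w := S.cf hζ h) (u := fun j : Fin (N / 2 - 1) => S.cf hζ (jz N j))
    (d := S.colZ hζ) (σ := S.sgn) (fun j => neg_one_pow_eq_or ℤ _) (fun χ _ => rfl)
    (fun χ hχ => (hcol χ (mem_bset.mp hχ)).1) (by
      obtain ⟨χ, hχ, ho⟩ := hodd
      exact ⟨χ, mem_bset.mpr hχ, ho⟩)
    (gram hne hne 4 (by rw [if_pos rfl, if_pos (neg_half h2).symm]; norm_num))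
    (fun j => gram jz_ne.1 jz_ne.1 _ (by rw [if_pos rfl, if_neg jz_pair.2]; norm_num))
    (fun i j hij => gram jz_ne.1 jz_ne.1 2 (by rw [if_neg (fun e => hij (jz_pair.1.mp e)), if_neg jz_pair.2]; norm_num))
    (fun j => gram jz_ne.1 hne 2 (by
      rw [if_neg jz_ne.2, if_neg (by rw [hh, neg_half h2]; exact jz_ne.2)]
      norm_num)) with ⟨hc, h4, h22⟩ | ⟨hle, hge, hex⟩
  · rw [Fintype.card_fin] at hc
    exact ⟨by omega, h4, h22⟩
  · exfalso
    rw [Fintype.card_fin] at hle hge
    obtain ⟨a, ha⟩ := S.hN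
    have h8 : N = 8 := by
      rcases a with _ | _ | a
      · rw [ha] at hge
        norm_num at hge
      · rw [ha]; norm_num
      · rw [ha, show 2 ^ (a + 1 + 1 + 2) = 16 * 2 ^ a by rw [pow_add, pow_add, pow_add]; ring] at hle
        have := Nat.one_le_two_pow (n := a)
        omega
    subst h8
    exact not_exotic S hζ hex

/-- The indices of the independent columns. -/
def tIdx (N : ℕ) (i : Fin (N / 2)) : ZMod N := (((i : ℕ) + 1 : ℕ) : ZMod N)

include hζ in
open scoped Classical in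
/-- The columns of the pairs are independent. -/
theorem tau_independent (S : DBlock M B N z) {c : Fin (N / 2) → ℂ}
    (hc : ∀ χ ∈ bset B, ∑ i, c i * S.v (tau hζ (tIdx N i)) χ = 0) (j : Fin (N / 2)) : c j = 0 := by
  set t := tIdx N with htd
  have hval : ∀ i, (t i).val = (i : ℕ) + 1 := fun i => by
    rw [htd]
    refine ZMod.val_cast_of_lt ?_
    have := i.2
    omega
  have ht0 : ∀ i, t i ≠ 0 := fun i h => by
    have := hval i
    rw [h, ZMod.val_zero] at this
    omega
  have hpair : ∀ i j, (t i = t j → i = j) ∧ (t i = -t j → i = j) := fun i j => by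
    have := i.2
    have := j.2
    refine ⟨fun h => Fin.ext (by have := hval i; rw [h, hval j] at this; omega), fun h => ?_⟩
    simp only [htd, tIdx] at h
    rw [eq_neg_iff_add_eq_zero, ← Nat.cast_add, ZMod.natCast_eq_zero_iff] at h
    have := Nat.le_of_dvd (by omega) h
    exact Fin.ext (by omega)
  have hμc : IsClassFunction _ (∑ i, c i • tau hζ (t i)) := fun g h => by
    simp only [Finset.sum_apply, Pi.smul_apply, tau_isClass hζ _ g h]
  have hμo : OnRot (∑ i, c i • tau hζ (t i)) := OnRot.sum _ fun i _ => (onRot_tau hζ _).smul _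
  have hv : ∀ χ ∈ bset B, S.v (∑ i, c i • tau hζ (t i)) χ = 0 := fun χ hχ => by
    rw [S.v_sum]
    exact hc χ hχ
  have h0 : (∑ i, c i • tau hζ (t i)) = 0 := classInner_self_eq_zero (by
    rw [← S.parseval hμc hμo hμc hμo]
    exact Finset.sum_eq_zero fun χ hχ => by rw [hv χ hχ, zero_mul])
  have h1 : classInner (∑ i, c i • tau hζ (t i)) (dth hζ (t j)) = 0 := by
    rw [h0, classInner_zero_left]
  rw [classInner_sum_left, Finset.sum_eq_single j] at h1
  · rw [classInner_smul_left, tau, classInner_sub_left, dth_inner, dth_inner, if_neg (ht0 j).symm,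
      if_neg (fun h => ht0 j (neg_eq_zero.mp h.symm)), if_pos rfl] at h1
    rcases mul_eq_zero.mp h1 with h | h
    · exact h
    · split_ifs at h <;> norm_num at h
  · intro i _ hne
    rw [classInner_smul_left, tau, classInner_sub_left, dth_inner, dth_inner, if_neg (ht0 j).symm,
      if_neg (fun h => ht0 j (neg_eq_zero.mp h.symm)), if_neg (fun h => hne ((hpair i j).1 h)),
      if_neg (fun h => hne ((hpair i j).2 h))]
    simp
  · exact fun h => absurd (Finset.mem_univ _) h

/-- The regular parts of the characters of a block, as a map of coefficient vectors. -/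
noncomputable def regComb (B : Set (IrrCharacter G)) : ({χ // χ ∈ bset B} → ℂ) →ₗ[ℂ] (G → ℂ) :=
  Fintype.linearCombination ℂ fun χ => pRegularPart 2 ((χ : IrrCharacter G) : G → ℂ)

theorem regComb_finrank : Module.finrank ℂ (LinearMap.range (regComb B)) = blockRank 2 B := by
  rw [regComb, Fintype.range_linearCombination, blockRank]
  have e : Set.range (fun χ : {χ // χ ∈ bset B} => pRegularPart 2 ((χ : IrrCharacter G) : G → ℂ)) =
      (fun χ : IrrCharacter G => pRegularPart 2 (χ : G → ℂ)) '' B := by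
    ext x
    simp only [Set.mem_range, Set.mem_image]
    exact ⟨fun ⟨χ, e⟩ => ⟨χ, mem_bset.mp χ.2, e⟩, fun ⟨χ, hχ, e⟩ => ⟨⟨χ, mem_bset.mpr hχ⟩, e⟩⟩
  rw [e]

theorem regComb_eq_zero {k : {χ // χ ∈ bset B} → ℂ} {f : IrrCharacter G → ℂ} (hk : ∀ χ, k χ = f χ.1)
    (h : ∀ g : G, ¬ 2 ∣ orderOf g → ∑ χ ∈ bset B, f χ * (χ : G → ℂ) g = 0) : k ∈ LinearMap.ker (regComb B) := by
  rw [LinearMap.mem_ker, regComb, Fintype.linearCombination_apply]
  funext g
  simp only [Finset.sum_apply, Pi.smul_apply, smul_eq_mul, Pi.zero_apply, hk, pRegularPart]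
  by_cases hg : IsPRegular 2 g
  · simp only [if_pos hg]
    rw [Finset.sum_coe_sort (bset B) (fun χ => f χ * (χ : G → ℂ) g), h g hg]
  · simp [hg]

theorem card_bound {ι : Type*} [Fintype ι] (k : ι → ({χ // χ ∈ bset B} → ℂ))
    (hker : ∀ i, k i ∈ LinearMap.ker (regComb B)) (hli : LinearIndependent ℂ k) :
    blockRank 2 B + Fintype.card ι ≤ (bset B).card := by
  have h1 := (LinearIndependent.of_comp (LinearMap.ker (regComb B)).subtype
    (v := fun i => (⟨k i, hker i⟩ : LinearMap.ker (regComb B))) hli).fintype_card_le_finrank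
  have h2 := LinearMap.finrank_range_add_finrank_ker (regComb B)
  rw [regComb_finrank, Module.finrank_pi, Fintype.card_coe] at h2
  omega

include hζ in
open scoped Classical in
/-- The rank is at most the number of characters less the number of independent columns. -/
theorem rank_le (S : DBlock M B N z) : blockRank 2 B + N / 2 ≤ (bset B).card := by
  have h := card_bound (fun (i : Fin (N / 2)) (χ : {χ // χ ∈ bset B}) => S.v (tau hζ (tIdx N i)) χ)
    (fun i => regComb_eq_zero (fun _ => rfl) fun g hg => by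
      rw [S.sum_v_value (tau_isClass hζ _) (onRot_tau hζ _), S.L_regular (tau_isClass hζ _) (onRot_tau hζ _) hg])
    (Fintype.linearIndependent_iff.mpr fun c hc j => tau_independent hζ S (fun χ hχ => by
      simpa [Finset.sum_apply] using congrFun hc ⟨χ, mem_bset.mpr (mem_bset.mp hχ)⟩) j)
  rwa [Fintype.card_fin] at h

include hζ in
open scoped Classical in
/-- A singular class outside the sections of the rotations takes one more from the rank. -/
theorem rank_le_succ (S : DBlock M B N z) {g : G} (hg2 : 2 ∣ orderOf g) (hg : ∀ t : G, ¬ Good z (t⁻¹ * g * t))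
    {χ₁ : IrrCharacter G} (hχ₁ : χ₁ ∈ B) (hne : (χ₁ : G → ℂ) g ≠ 0) :
    blockRank 2 B + N / 2 + 1 ≤ (bset B).card := by
  set f : Option (Fin (N / 2)) → IrrCharacter G → ℂ := fun o χ =>
    o.elim (conj ((χ : G → ℂ) g)) fun i => S.v (tau hζ (tIdx N i)) χ with hf
  have h := card_bound (fun o (χ : {χ // χ ∈ bset B}) => f o χ)
    (fun o => regComb_eq_zero (f := f o) (fun _ => rfl) fun y hy => ?_) ?_
  · rw [Fintype.card_option, Fintype.card_fin] at h
    omega
  · rcases o with _ | i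
    · have h0 := weak_orthogonality S.hM S.hB hy hg2
      rw [finsum_mem_irr] at h0
      rw [← h0]
      refine Finset.sum_congr ?_ fun χ _ => mul_comm _ _
      ext χ
      simp [mem_bset]
    · simp only [hf, Option.elim]
      rw [S.sum_v_value (tau_isClass hζ _) (onRot_tau hζ _), S.L_regular (tau_isClass hζ _) (onRot_tau hζ _) hy]
  · rw [Fintype.linearIndependent_iff]
    intro c hc
    have hpt : ∀ χ ∈ bset B, c none * conj ((χ : G → ℂ) g) + ∑ i, c (some i) * S.v (tau hζ (tIdx N i)) χ = 0 :=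
      fun χ hχ => by
        simpa [Finset.sum_apply, Fintype.sum_option, hf] using congrFun hc ⟨χ, hχ⟩
    have h1 : c none * ∑ χ ∈ bset B, (Complex.normSq ((χ : G → ℂ) g) : ℂ) = 0 := by
      have e : ∑ χ ∈ bset B, (c none * conj ((χ : G → ℂ) g) +
          ∑ i, c (some i) * S.v (tau hζ (tIdx N i)) χ) * (χ : G → ℂ) g = 0 :=
        Finset.sum_eq_zero fun χ hχ => by rw [hpt χ hχ, zero_mul]
      simp only [add_mul, Finset.sum_add_distrib, Finset.sum_mul] at e
      rw [Finset.sum_comm (t := (Finset.univ : Finset (Fin (N / 2))))] at e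
      simp only [mul_assoc, ← Finset.mul_sum] at e
      rw [Finset.sum_eq_zero (s := (Finset.univ : Finset (Fin (N / 2)))) (fun i _ => by
        rw [S.sum_v_value (tau_isClass hζ _) (onRot_tau hζ _), S.L_eq_zero (tau_isClass hζ _) (onRot_tau hζ _) hg,
          mul_zero]), add_zero] at e
      rw [← e]
      congr 1
      exact Finset.sum_congr rfl fun χ _ => Complex.normSq_eq_conj_mul_self
    have hnone : c none = 0 := by
      refine (mul_eq_zero.mp h1).resolve_right fun h0 => hne ?_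
      rw [← Complex.ofReal_sum, Complex.ofReal_eq_zero,
        Finset.sum_eq_zero_iff_of_nonneg fun χ _ => Complex.normSq_nonneg _] at h0
      exact Complex.normSq_eq_zero.mp (h0 χ₁ (mem_bset.mpr hχ₁))
    intro o
    rcases o with _ | i
    · exact hnone
    · refine tau_independent hζ S (c := fun i => c (some i)) (fun χ hχ => ?_) i
      have := hpt χ hχ
      rwa [hnone, zero_mul, zero_add] at this

open scoped Classical in
/-- The invariants. -/
theorem invariants (hM : IsPModular 2 M) (hB : IsPBlock M B) {D : Subgroup G} (hD : IsDefectGroup 2 M B D)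
    {n : ℕ} (hn : 3 ≤ n) (hdih : Nonempty (D ≃* DihedralGroup (2 ^ (n - 1)))) :
    Nat.card B = 2 ^ (n - 2) + 3 ∧ 1 ≤ blockRank 2 B ∧ blockRank 2 B ≤ 3 ∧
      Nat.card {χ : IrrCharacter G // χ ∈ B ∧ blockHeight 2 B (χ : G → ℂ) = 0} = 4 ∧
      ∀ χ ∈ B, blockHeight 2 B (χ : G → ℂ) ≤ 1 := by
  obtain ⟨ι⟩ := hdih
  obtain ⟨a, rfl⟩ : ∃ a, n = a + 3 := ⟨n - 3, by omega⟩
  haveI : NeZero (2 ^ (a + 3 - 1)) := ⟨pow_ne_zero _ two_ne_zero⟩
  obtain ⟨z, hz⟩ := exists_dblock hM hB hD (N := 2 ^ (a + 3 - 1)) (a := a) rfl ι.symm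
  haveI : Fintype (Subgroup.centralizer ({z} : Set G)) := Fintype.ofFinite _
  obtain ⟨S⟩ := hz
  obtain ⟨ζ, hζ⟩ : ∃ ζ : ℂ, IsPrimitiveRoot ζ (2 ^ (a + 3 - 1)) :=
    ⟨_, Complex.isPrimitiveRoot_exp (2 ^ (a + 3 - 1)) (NeZero.ne _)⟩
  obtain ⟨hc, h4, h22⟩ := standard hζ S
  obtain ⟨hcol, -⟩ := S.heights hζ
  have hhalf : 2 ^ (a + 3 - 1) / 2 = 2 ^ (a + 3 - 2) := by
    rw [show a + 3 - 1 = a + 3 - 2 + 1 by omega, pow_succ, Nat.mul_div_cancel _ two_pos]
  have hiff : ∀ χ ∈ B, (blockHeight 2 B (χ : G → ℂ) = 0 ↔ Odd (S.colZ hζ χ)) ∧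
      blockHeight 2 B (χ : G → ℂ) ≤ 1 := by
    intro χ hχ
    by_cases ho : Odd (S.colZ hζ χ)
    · rw [(hcol χ hχ).2.1 ho]
      exact ⟨iff_of_true rfl ho, zero_le_one⟩
    · rw [(hcol χ hχ).2.2 (h22 χ (mem_bset.mpr hχ) ho)]
      exact ⟨iff_of_false one_ne_zero ho, le_rfl⟩
  have hk : Nat.card B = 2 ^ (a + 3 - 2) + 3 := by
    rw [CentralClass.natCard_eq_bset, hc, hhalf]
  have hl := rank_le hζ S
  refine ⟨hk, KleinBlock.rank_pos hM hB, by omega, ?_, fun χ hχ => (hiff χ hχ).2⟩
  rw [Nat.subtype_card ((bset B).filter fun χ => Odd (S.colZ hζ χ)) fun χ => ?_, h4]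
  rw [Finset.mem_filter, mem_bset]
  exact ⟨fun ⟨h, h'⟩ => ⟨h, (hiff χ h).1.mpr h'⟩, fun ⟨h, h'⟩ => ⟨h, (hiff χ h).1.mp h'⟩⟩

end Cfsg.Agent.Char.DihBlock
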