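import Cfsg.Agent.Lib.Char.DihedralBlock.Nilpotent
import Cfsg.Agent.Lib.Char.DihedralColumns
import Cfsg.Agent.Lib.Char.CentralPairs

/-!
# The local block at the central involution of a dihedral defect group

The class functions on the defect group are carried isometrically to the span of the local block.
-/

set_option autoImplicit false
set_option linter.unusedSectionVars false
set_option linter.style.haveILetI false

namespace Cfsg.Agent.Char.DihBlock

open Cfsg DihedralGroup Relation
open scoped ComplexConjugate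

universe u

variable {G : Type u} [Group G] [Fintype G]

/-- A block with dihedral defect group, its block at the central involution and a character of height zero there. -/
structure DBlock (M : Ideal AlgInt) (B : Set (IrrCharacter G)) (N : ℕ) [NeZero N] (z : G)
    [Fintype (Subgroup.centralizer ({z} : Set G))] where
  hM : IsPModular 2 M
  hB : IsPBlock M B
  f : Set (IrrCharacter (Subgroup.centralizer ({z} : Set G)))
  hind : IsInducedBlock M (Subgroup.centralizer ({z} : Set G)) f B
  hdef : blockDefect 2 f = blockDefect 2 B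
  P : Subgroup (Subgroup.centralizer ({z} : Set G))
  hP : IsDefectGroup 2 M f P
  e : Set (IrrCharacter (Subgroup.centralizer (P : Set (Subgroup.centralizer ({z} : Set G)))))
  hmax : IsMaximalBrauerPair 2 M f P e
  hnil : IsNilpotentBlock 2 M f
  ψ : IrrCharacter (Subgroup.centralizer ({z} : Set G))
  hψ : ψ ∈ f
  hψ0 : blockHeight 2 f (ψ : Subgroup.centralizer ({z} : Set G) → ℂ) = 0
  ι : DihedralGroup N ≃* P
  hN : ∃ a : ℕ, N = 2 ^ (a + 2)
  hz : (((ι (r ((N / 2 : ℕ) : ZMod N)) : P) : Subgroup.centralizer ({z} : Set G)) : G) = z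

theorem center_r_half {N : ℕ} [NeZero N] (h4 : 4 ∣ N) {d : DihedralGroup N} (hd : ∀ y, d * y = y * d)
    (h1 : d ≠ 1) : d = r ((N / 2 : ℕ) : ZMod N) := by
  have h2 : 2 ∣ N := (dvd_mul_right 2 2).trans h4
  rcases d with i | i
  · have h := hd (sr 0)
    rw [r_mul_sr, sr_mul_r, sr.injEq, zero_sub, zero_add] at h
    rcases zmod_two_torsion h2 (i := i) (by linear_combination -h) with rfl | rfl
    · exact absurd rfl h1
    · rfl
  · exfalso
    have h := hd (r 1)
    rw [r_mul_sr, sr_mul_r, sr.injEq] at h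
    have h' : ((2 : ℕ) : ZMod N) = 0 := by push_cast; linear_combination h
    rw [ZMod.natCast_eq_zero_iff] at h'
    have := Nat.le_of_dvd two_pos h'
    have := Nat.le_of_dvd (Nat.pos_of_ne_zero (NeZero.ne N)) h4
    omega

theorem half_ne {N : ℕ} [NeZero N] (h2 : 2 ∣ N) : ((N / 2 : ℕ) : ZMod N) ≠ 0 := by
  rw [Ne, ZMod.natCast_eq_zero_iff]
  obtain ⟨m, rfl⟩ := h2
  intro h
  have hm : 0 < m := Nat.pos_of_ne_zero fun h => NeZero.ne (2 * m) (by simp [h])
  have := Nat.le_of_dvd (by omega) h
  omega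

theorem r_half_central {N : ℕ} [NeZero N] (h2 : 2 ∣ N) (y : DihedralGroup N) :
    r ((N / 2 : ℕ) : ZMod N) * y = y * r ((N / 2 : ℕ) : ZMod N) := by
  have hh : ((N / 2 : ℕ) : ZMod N) + ((N / 2 : ℕ) : ZMod N) = 0 := by
    rw [← Nat.cast_add, ← two_mul, Nat.mul_div_cancel' h2, ZMod.natCast_self]
  rcases y with i | i
  · rw [r_mul_r, r_mul_r, add_comm]
  · rw [r_mul_sr, sr_mul_r]
    congr 1
    linear_combination -hh

open scoped Classical in
/-- The data exist at the image of the central rotation. -/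
theorem nonempty_dblock {M : Ideal AlgInt} (hM : IsPModular 2 M) {B : Set (IrrCharacter G)} (hB : IsPBlock M B)
    {D : Subgroup G} (hD : IsDefectGroup 2 M B D) {N : ℕ} [NeZero N] {a : ℕ} (hN : N = 2 ^ (a + 2))
    (ι : DihedralGroup N ≃* D) {z : G} (hz : z = ((ι (r ((N / 2 : ℕ) : ZMod N)) : D) : G))
    [Fintype (Subgroup.centralizer ({z} : Set G))] : Nonempty (DBlock M B N z) := by
  revert ‹Fintype (Subgroup.centralizer ({z} : Set G))›
  subst hz
  have h4 : 4 ∣ N := ⟨2 ^ a, by rw [hN, pow_add]; ring⟩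
  have h2 : 2 ∣ N := (dvd_mul_right 2 2).trans h4
  set z : G := ((ι (r ((N / 2 : ℕ) : ZMod N)) : D) : G) with hz
  intro _
  obtain ⟨e, he⟩ := exists_pair_of_le_defect hM hB hD le_rfl
  have hmax := maximal_of_defect hM hD he
  have hzD : ∀ d ∈ D, d * z = z * d := by
    intro d hd
    obtain ⟨y, hy⟩ := ι.surjective ⟨d, hd⟩
    have := congrArg (fun y => ((ι y : D) : G)) (r_half_central h2 y)
    simp only [map_mul, Subgroup.coe_mul, hy] at this
    exact this.symm
  obtain ⟨f0, -, -, hind0, hdef0⟩ := CentralPairs.exists_below hM hmax (ι (r ((N / 2 : ℕ) : ZMod N))).2 hzD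
  obtain ⟨f, hf, hfd, -, hfi⟩ := CentralPairs.exists_same (B := B) (p := 2) (Star.centralizer_zp z) f0 hind0.1
  have hind := hfi hind0
  have hdef := hfd.trans hdef0
  obtain ⟨P, hP⟩ := exists_isDefectGroup hM hf
  obtain ⟨E, hE, hle⟩ := induced_defect_le hM hind hP
  have hcard : P.map (Subgroup.centralizer ({z} : Set G)).subtype = E := by
    refine Subgroup.eq_of_le_of_card_ge hle (le_of_eq ?_)
    rw [Subgroup.card_map_of_injective (Subgroup.subtype_injective _), card_defectGroup hM hB hE,
      card_defectGroup hM hf hP, hdef]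
  obtain ⟨t, ht⟩ := defect_groups_conj hM hB hD hE
  let ι' : DihedralGroup N ≃* P :=
    ((ι.trans (D.equivMapOfInjective _ (MulEquiv.injective (MulAut.conj t)))).trans
      (MulEquiv.subgroupCongr (hcard.trans ht).symm)).trans
      (P.equivMapOfInjective _ (Subgroup.subtype_injective _)).symm
  set zC : Subgroup.centralizer ({z} : Set G) := ⟨z, Subgroup.mem_centralizer_singleton_iff.mpr rfl⟩
  have hz1 : orderOf z = 2 := by
    rw [hz, Subgroup.orderOf_coe, MulEquiv.orderOf_eq]
    refine orderOf_eq_prime ?_ ?_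
    · rw [r_pow, Nat.cast_two, mul_two, ← Nat.cast_add, ← two_mul, Nat.mul_div_cancel' h2, ZMod.natCast_self]
      rfl
    · rw [DihedralGroup.one_def, Ne, r.injEq]
      exact half_ne h2
  have hzc : ∀ c : Subgroup.centralizer ({z} : Set G), zC * c = c * zC := fun c =>
    Subtype.ext (cent_mul_comm c)
  have hzP : zC ∈ P := by
    let Z := Subgroup.zpowers zC
    have hZ : Z ≤ Subgroup.center _ := Subgroup.zpowers_le.mpr (Subgroup.mem_center_iff.mpr fun c => (hzc c).symm)
    haveI : Z.Normal := ⟨fun w hw g => by rw [Subgroup.mem_center_iff.mp (hZ hw) g]; simpa using hw⟩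
    haveI := Fact.mk Nat.prime_two
    have hZp : IsPGroup 2 Z := IsPGroup.of_card (n := 1) (by
      rw [Nat.card_zpowers, Subgroup.orderOf_mk, hz1, pow_one])
    exact pCore_le_defectGroup hM hf hP Z hZp (Subgroup.mem_zpowers _)
  have hd0 : ι'.symm ⟨zC, hzP⟩ = r ((N / 2 : ℕ) : ZMod N) := by
    refine center_r_half h4 (fun y => ?_) fun h => ?_
    · refine ι'.injective ?_
      rw [map_mul, map_mul, MulEquiv.apply_symm_apply]
      exact Subtype.ext (hzc _)
    · have h' := congrArg (fun w => (((ι' w : P) : Subgroup.centralizer ({z} : Set G)) : G)) h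
      simp only [MulEquiv.apply_symm_apply, map_one, OneMemClass.coe_one] at h'
      rw [show z = 1 from h', orderOf_one] at hz1
      omega
  have hz' : ((ι' (r ((N / 2 : ℕ) : ZMod N)) : P) : Subgroup.centralizer ({z} : Set G)) = zC := by
    rw [← hd0, MulEquiv.apply_symm_apply]
  obtain ⟨e', he'⟩ := exists_pair_of_le_defect hM hf hP le_rfl
  obtain ⟨ψ, hψ, hψ0⟩ := exists_height_zero (p := 2) (block_nonempty (pmod_prime hM) hf)
  exact ⟨⟨hM, hB, f, hind, hdef, P, hP, e', maximal_of_defect hM hP he',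
    nilpotent_of_central hM hf hP ι' hN h2 (fun w => by rw [hz']; exact hzc w), ψ, hψ, hψ0, ι', ⟨a, hN⟩,
    congrArg Subtype.val hz'⟩⟩

/-- The data exist. -/
theorem exists_dblock {M : Ideal AlgInt} (hM : IsPModular 2 M) {B : Set (IrrCharacter G)} (hB : IsPBlock M B)
    {D : Subgroup G} (hD : IsDefectGroup 2 M B D) {N : ℕ} [NeZero N] {a : ℕ} (hN : N = 2 ^ (a + 2))
    (ι : DihedralGroup N ≃* D) :
    ∃ z : G, ∀ [Fintype (Subgroup.centralizer ({z} : Set G))], Nonempty (DBlock M B N z) :=
  ⟨_, fun {_} => nonempty_dblock hM hB hD hN ι rfl⟩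

variable {M : Ideal AlgInt} {B : Set (IrrCharacter G)} {N : ℕ} [NeZero N] {z : G}
  [Fintype (Subgroup.centralizer ({z} : Set G))] (S : DBlock M B N z)

namespace DBlock

/-- The central involution inside its centralizer. -/
def zC (_ : DBlock M B N z) : Subgroup.centralizer ({z} : Set G) :=
  ⟨z, Subgroup.mem_centralizer_singleton_iff.mpr rfl⟩

theorem zC_comm (c : Subgroup.centralizer ({z} : Set G)) : S.zC * c = c * S.zC := Subtype.ext (cent_mul_comm c)

theorem hf : IsPBlock M S.f := S.hind.1

theorem four_dvd (S : DBlock M B N z) : 4 ∣ N := by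
  obtain ⟨a, ha⟩ := S.hN
  exact ⟨2 ^ a, by rw [ha, pow_add]; ring⟩

theorem two_dvd (S : DBlock M B N z) : 2 ∣ N := (dvd_mul_right 2 2).trans S.four_dvd

/-- The defect group inside the centralizer. -/
def d (y : DihedralGroup N) : Subgroup.centralizer ({z} : Set G) := ((S.ι y : S.P) : Subgroup.centralizer ({z} : Set G))

theorem d_half : S.d (r ((N / 2 : ℕ) : ZMod N)) = S.zC := Subtype.ext S.hz

theorem exists_d {w : Subgroup.centralizer ({z} : Set G)} (hw : w ∈ S.P) : ∃ y, S.d y = w :=
  ⟨S.ι.symm ⟨w, hw⟩, by simp [d]⟩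

theorem d_mem (y : DihedralGroup N) : S.d y ∈ S.P := (S.ι y).2

theorem d_ppower (y : DihedralGroup N) : ∃ k : ℕ, orderOf (S.d y) = 2 ^ k := by
  haveI := Fact.mk Nat.prime_two
  obtain ⟨k, hk⟩ := IsPGroup.iff_orderOf.mp S.hmax.1.1.1 (S.ι y)
  exact ⟨k, by rw [d, Subgroup.orderOf_coe, hk]⟩

theorem orderOf_d (y : DihedralGroup N) : orderOf (S.d y) = orderOf y := by
  rw [d, Subgroup.orderOf_coe, MulEquiv.orderOf_eq]

theorem card_P : Nat.card S.P = 2 * N := by
  rw [← Nat.card_congr S.ι.toEquiv, DihedralGroup.nat_card]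

theorem two_pow_defect : 2 ^ blockDefect 2 S.f = 2 * N := by
  rw [← card_defectGroup S.hM S.hf S.hP, S.card_P]

/-- A class function of the dihedral group on the defect group. -/
def cls (μ : DihedralGroup N → ℂ) : S.P → ℂ := fun x => μ (S.ι.symm x)

theorem cls_d (μ : DihedralGroup N → ℂ) (y : DihedralGroup N) :
    Star.clsFun (S.cls μ) (S.d y) = μ y := by
  rw [d, Star.clsFun_mem, cls, MulEquiv.symm_apply_apply]

theorem cls_isClass {μ : DihedralGroup N → ℂ} (hμ : IsClassFunction _ μ) : IsClassFunction S.P (S.cls μ) :=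
  fun x y => by simp only [cls, map_mul, map_inv]; exact hμ _ _

/-- The carried function. -/
noncomputable def th (μ : DihedralGroup N → ℂ) : Subgroup.centralizer ({z} : Set G) → ℂ :=
  Star.theta 2 M S.f S.P S.e (Star.clsFun (S.cls μ)) (S.ψ : Subgroup.centralizer ({z} : Set G) → ℂ)

theorem th_add (μ ν : DihedralGroup N → ℂ) : S.th (μ + ν) = S.th μ + S.th ν := by
  funext g
  simp only [th, Star.theta, Pi.add_apply, ← Finset.sum_add_distrib, ← add_mul]
  refine Finset.sum_congr rfl fun a _ => ?_
  congr 1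
  simp only [Star.wt, Star.clsFun, cls, Pi.add_apply]
  split_ifs <;> simp

theorem th_smul (c : ℂ) (μ : DihedralGroup N → ℂ) : S.th (c • μ) = c • S.th μ := by
  funext g
  simp only [th, Star.theta, Pi.smul_apply, smul_eq_mul, Finset.mul_sum, ← mul_assoc]
  refine Finset.sum_congr rfl fun a _ => ?_
  congr 1
  simp only [Star.wt, Star.clsFun, cls, Pi.smul_apply, smul_eq_mul]
  split_ifs <;> simp

/-- The carrying as a linear map. -/
noncomputable def thL : (DihedralGroup N → ℂ) →ₗ[ℂ] (Subgroup.centralizer ({z} : Set G) → ℂ) where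
  toFun := S.th
  map_add' := S.th_add
  map_smul' := S.th_smul

theorem thL_apply (μ : DihedralGroup N → ℂ) : S.thL μ = S.th μ := rfl

theorem stable {μ : DihedralGroup N → ℂ} (hμ : IsClassFunction _ μ) :
    Star.Stable 2 M S.P S.e (Star.clsFun (S.cls μ)) :=
  Star.stable_clsFun S.hM S.hmax S.hnil (S.cls_isClass hμ)

theorem th_isClass {μ : DihedralGroup N → ℂ} (hμ : IsClassFunction _ μ) :
    IsClassFunction _ (S.th μ) :=
  Star.isClassFunction_theta S.hM (S.stable hμ) (isClassFunction_character (irr_isCharacter S.ψ.2))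

open scoped Classical in
theorem th_inner {μ ν : DihedralGroup N → ℂ} (hμ : IsClassFunction _ μ) (hν : IsClassFunction _ ν) :
    classInner (S.th μ) (S.th ν) = classInner μ ν := by
  haveI := Fintype.ofFinite S.P
  rw [th, th, Star.inner_cls S.hM S.hmax S.hnil S.hψ S.hψ0 (S.cls_isClass hμ) (S.cls_isClass hν),
    classInner, classInner, Nat.card_congr S.ι.toEquiv]
  congr 1
  exact (Fintype.sum_equiv S.ι.toEquiv _ _ fun y => by simp [cls]).symm

/-- The values where the weight is constant. -/
theorem th_const {μ : DihedralGroup N → ℂ} (hμ : IsClassFunction _ μ) {g : Subgroup.centralizer ({z} : Set G)}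
    {c : ℂ} (hc : ∀ w y, w * ppt 2 g * w⁻¹ = S.d y → μ y = c) :
    S.th μ g = c * (S.ψ : Subgroup.centralizer ({z} : Set G) → ℂ) g := by
  conv_rhs => rw [← Star.theta_one S.hM S.hmax S.hψ]
  rw [th, Star.theta, Star.theta, Finset.mul_sum]
  refine Finset.sum_congr rfl fun a ha => ?_
  obtain ⟨w, hw⟩ := pairs_conj_into_maximal S.hM S.hmax (Star.mem_prs.mp ha).2
  rw [Star.wt_eq S.hM (S.stable hμ) (Star.mem_prs.mp ha).1 (Star.mem_prs.mp ha).2.1.2 (g := w) hw,
    Star.wt_one S.hM S.hmax ha, one_mul]
  congr 1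
  have hmem : w * ppt 2 g * w⁻¹ ∈ S.P := subpair_rel_le hw (by
    show _ ∈ a.1.map _
    exact ⟨ppt 2 g, by rw [(Star.mem_prs.mp ha).1]; exact Subgroup.mem_zpowers _, rfl⟩)
  obtain ⟨y, hy⟩ := S.exists_d hmem
  rw [← hy, S.cls_d]
  exact hc w y hy.symm

theorem th_eq_zero {μ : DihedralGroup N → ℂ} (hμ : IsClassFunction _ μ) {g : Subgroup.centralizer ({z} : Set G)}
    (hc : ∀ w y, w * ppt 2 g * w⁻¹ = S.d y → μ y = 0) : S.th μ g = 0 := by
  rw [S.th_const hμ hc, zero_mul]

theorem th_regular {μ : DihedralGroup N → ℂ} (hμ : IsClassFunction _ μ) {g : Subgroup.centralizer ({z} : Set G)}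
    (hg : ¬ 2 ∣ orderOf g) : S.th μ g = μ 1 * (S.ψ : Subgroup.centralizer ({z} : Set G) → ℂ) g := by
  rw [th, Star.theta_regular S.hM S.hmax (S.stable hμ) S.hψ hg,
    show (1 : Subgroup.centralizer ({z} : Set G)) = S.d 1 by simp [d], S.cls_d]

/-- A function of the defect group on the dihedral group. -/
def back (ν : S.P → ℂ) : DihedralGroup N → ℂ := fun y => ν (S.ι y)

theorem cls_back (ν : S.P → ℂ) : S.cls (S.back ν) = ν := funext fun x => by simp [cls, back]

theorem back_cls (μ : DihedralGroup N → ℂ) : S.back (S.cls μ) = μ := funext fun x => by simp [cls, back]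

theorem back_isClass {ν : S.P → ℂ} (hν : IsClassFunction S.P ν) : IsClassFunction _ (S.back ν) :=
  fun x y => by simp only [back, map_mul, map_inv]; exact hν _ _

open scoped Classical in
/-- The irreducible characters of the defect group go to those of the block. -/
theorem th_image (χ : IrrCharacter S.P) :
    ∃ η : IrrCharacter (Subgroup.centralizer ({z} : Set G)), η ∈ S.f ∧
      S.th (S.back χ) = (η : Subgroup.centralizer ({z} : Set G) → ℂ) ∧
      (η : Subgroup.centralizer ({z} : Set G) → ℂ) 1 =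
        (χ : S.P → ℂ) 1 * (S.ψ : Subgroup.centralizer ({z} : Set G) → ℂ) 1 := by
  haveI := Fintype.ofFinite S.P
  obtain ⟨η, hη, h1, -⟩ := Star.exists_image S.hM S.hmax S.hnil S.hψ S.hψ0 χ
  have h2 : S.th (S.back χ) = (η : Subgroup.centralizer ({z} : Set G) → ℂ) := by
    rw [← h1, th, S.cls_back]
  refine ⟨η, hη, h2, ?_⟩
  rw [← h2, S.th_regular (S.back_isClass (isClassFunction_character (irr_isCharacter χ.2)))
    (by rw [orderOf_one]; exact Nat.prime_two.not_dvd_one), back, map_one]

open scoped Classical in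
theorem th_expand [Fintype S.P] {μ : DihedralGroup N → ℂ} (hμ : IsClassFunction _ μ) :
    S.th μ = ∑ χ : IrrCharacter S.P, classInner (S.cls μ) (χ : S.P → ℂ) • S.th (S.back χ) := by
  have h : μ = ∑ χ : IrrCharacter S.P, classInner (S.cls μ) (χ : S.P → ℂ) • S.back χ := by
    conv_lhs => rw [← S.back_cls μ, classFun_expansion (S.cls_isClass hμ)]
    funext y
    simp [back]
  conv_lhs => rw [h, ← S.thL_apply, map_sum]
  simp only [map_smul, thL_apply]

/-- The carried functions see only the block. -/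
theorem th_inner_other {μ : DihedralGroup N → ℂ} (hμ : IsClassFunction _ μ)
    {η : IrrCharacter (Subgroup.centralizer ({z} : Set G))} (hη : η ∉ S.f) :
    classInner (S.th μ) (η : Subgroup.centralizer ({z} : Set G) → ℂ) = 0 := by
  classical
  haveI := Fintype.ofFinite S.P
  rw [S.th_expand hμ, classInner_sum_left]
  refine Finset.sum_eq_zero fun χ _ => ?_
  obtain ⟨η', hη', h, -⟩ := S.th_image χ
  rw [classInner_smul_left, h, irr_orth η'.2 η.2, if_neg fun (e : (η' : Subgroup.centralizer ({z} : Set G) → ℂ) = η) => hη (Subtype.ext e ▸ hη'), mul_zero]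

open scoped Classical in
/-- Every function in the span of the block is carried. -/
theorem exists_th {F : Subgroup.centralizer ({z} : Set G) → ℂ} :
    ∃ μ : DihedralGroup N → ℂ, IsClassFunction _ μ ∧ blockPart S.f F = S.th μ := by
  haveI := Fintype.ofFinite S.P
  choose lam hlam using fun η : {η // η ∈ S.f} => Star.exists_preimage S.hM S.hmax S.hnil S.hψ S.hψ0 η.2
  refine ⟨∑ η : {η // η ∈ S.f}, classInner F ((η : IrrCharacter (Subgroup.centralizer ({z} : Set G))) : Subgroup.centralizer ({z} : Set G) → ℂ) •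
    (fun y => ((lam η : IrrCharacter S.P) : S.P → ℂ) (S.ι y)), fun y t => ?_, ?_⟩
  · simp only [Finset.sum_apply, Pi.smul_apply, map_mul, map_inv,
      isClassFunction_character (irr_isCharacter (Subtype.prop _)) _ _]
  · rw [← S.thL_apply, map_sum]
    funext g
    rw [blockPart_eq, Finset.sum_apply, Finset.sum_subtype (p := fun η => η ∈ S.f) _ (fun η => by simp)]
    refine Finset.sum_congr rfl fun η _ => ?_
    rw [map_smul, Pi.smul_apply, smul_eq_mul, thL_apply, ← hlam η, th]
    congr 4
    funext x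
    simp [cls]

theorem inner_blockPart {μ : DihedralGroup N → ℂ} (hμ : IsClassFunction _ μ)
    (F : Subgroup.centralizer ({z} : Set G) → ℂ) :
    classInner (blockPart S.f F) (S.th μ) = classInner F (S.th μ) := by
  classical
  rw [classFun_expansion (S.th_isClass hμ), classInner_sum_right, classInner_sum_right]
  refine Finset.sum_congr rfl fun η _ => ?_
  rw [classInner_smul_right, classInner_smul_right]
  by_cases hη : η ∈ S.f
  · congr 1
    rw [show blockPart S.f F = ∑ θ : IrrCharacter (Subgroup.centralizer ({z} : Set G)) with θ ∈ S.f,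
      classInner F (θ : Subgroup.centralizer ({z} : Set G) → ℂ) • (θ : Subgroup.centralizer ({z} : Set G) → ℂ) from
      funext fun g => by rw [blockPart_eq, Finset.sum_apply]; rfl]
    rw [classInner_sum_left, Finset.sum_eq_single η]
    · rw [classInner_smul_left, irr_orth η.2 η.2, if_pos rfl, mul_one]
    · intro θ _ hne
      rw [classInner_smul_left, irr_orth θ.2 η.2, if_neg fun e => hne (Subtype.ext e), mul_zero]
    · exact fun h => absurd (Finset.mem_filter.mpr ⟨Finset.mem_univ _, hη⟩) h
  · rw [S.th_inner_other hμ hη, map_zero, zero_mul, zero_mul]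

/-- The carried characters are characters. -/
theorem th_character {μ : DihedralGroup N → ℂ} (hμ : IsCharacter _ μ) :
    IsCharacter _ (S.th μ) := by
  classical
  haveI := Fintype.ofFinite S.P
  obtain ⟨m, hm⟩ := exists_decomposition (isCharacter_comp S.ι.symm.toMonoidHom hμ)
  have h : μ = ∑ χ : IrrCharacter S.P, m χ • S.back χ := by
    conv_lhs => rw [← S.back_cls μ, show S.cls μ = μ ∘ S.ι.symm.toMonoidHom from rfl, hm]
    funext y
    simp [back]
  rw [h, ← S.thL_apply, map_sum]
  refine isCharacter_sum _ _ fun χ _ => ?_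
  rw [map_nsmul, thL_apply]
  obtain ⟨η, -, h, -⟩ := S.th_image χ
  rw [h]
  exact isCharacter_nsmul (irr_isCharacter η.2) _

/-- Local integral weights give local integral values. -/
theorem th_memLR {μ : DihedralGroup N → ℂ} (hμ : ∀ y, MemLocalRing M (μ y))
    (g : Subgroup.centralizer ({z} : Set G)) : MemLocalRing M (S.th μ g) := by
  classical
  have hP := pmod_prime S.hM
  have hcls : ∀ x, MemLocalRing M (Star.clsFun (S.cls μ) x) := fun x => by
    rw [Star.clsFun]
    split_ifs
    · exact hμ _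
    · exact memLR_zero hP
  rw [th, Star.theta]
  refine memLR_sum hP _ _ fun a ha => memLR_mul hP ?_ ?_
  · rw [Star.wt]
    split_ifs
    · exact hcls _
    · exact memLR_zero hP
  · rw [Star.pc]
    refine memLR_sum hP _ _ fun k _ => memLR_mul hP ?_
      (memLocalRing_of_isIntegral hP.ne_top (char_isIntegral (irr_isCharacter S.ψ.2) _))
    haveI := Fintype.ofFinite (Subgroup.centralizer (a.1 : Set (Subgroup.centralizer ({z} : Set G))))
    rw [subgroupBlockCoeff]
    split_ifs
    · exact memLR_blockCoeff S.hM (Star.mem_prs.mp ha).2.1.2 _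
    · exact memLR_zero hP

end DBlock

end Cfsg.Agent.Char.DihBlock
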